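import Cfsg.Agent.Known.Sympl.Aut
import Mathlib.Algebra.CharP.Two

/-!
In characteristic two and rank at least three every automorphism of `PSp (2m, q)` is semilinear: inside the centre of a
Sylow subgroup the transvections are the elements having no conjugate with product of order four.
-/

set_option autoImplicit false
set_option linter.unusedSectionVars false

namespace Cfsg.Lib.Sympl

open Matrix Cfsg.Lib.Classical Cfsg.Lib.Fusion.PSp Cfsg.Lib.Known.AutPSLn

variable {F : Type*} [Field F] [Fintype F] [CharP F 2] {m : ℕ}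

local notation "Vec" => (Fin m ⊕ Fin m → F)
local notation "Mat" => Matrix (Fin m) (Fin m) F
local notation "Big" => Matrix (Fin m ⊕ Fin m) (Fin m ⊕ Fin m) F
local notation "Spm" => Matrix.symplecticGroup (Fin m) F
local notation "Pm" => Cfsg.PSp m F
local notation "π'" => QuotientGroup.mk' (Subgroup.center (Matrix.symplecticGroup (Fin m) F))
local notation "Bf" => sympBilin m F

theorem form_symm2 (u v : Vec) : Bf u v = Bf v u := by
  rw [← LinearMap.IsAlt.neg (sympBilin_isAlt m F) v u, CharTwo.neg_eq]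

theorem two_eq : (2 : F) = 0 := CharTwo.two_eq_zero

/-- Basis vectors. -/
def el (i : Fin m) : Vec := Pi.single (Sum.inl i) 1

/-- Basis vectors. -/
def fr (i : Fin m) : Vec := Pi.single (Sum.inr i) 1

theorem B_el (x : Vec) (i : Fin m) : Bf x (el i) = x (Sum.inr i) := by
  rw [sympBilin_eq_sum, Finset.sum_eq_single i]
  · simp [el]
  · intro j _ hj; simp [el, hj]
  · simp

theorem B_fr (x : Vec) (i : Fin m) : Bf x (fr i) = x (Sum.inl i) := by
  rw [sympBilin_eq_sum, Finset.sum_eq_single i]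
  · simp [fr, CharTwo.neg_eq]
  · intro j _ hj; simp [fr, hj]
  · simp

/-- A product of transvections: the general element of the centre of a Sylow subgroup. -/
noncomputable def S (u w : Vec) (a b : F) : Spm := tv u (a + b) * tv w b * tv (u + w) b

theorem S_mulVec {u w : Vec} (h : Bf u w = 0) (a b : F) (x : Vec) :
    ((S u w a b : Spm) : Big) *ᵥ x = x + (a * Bf x u + b * Bf x w) • u + (b * Bf x u) • w := by
  have huu : ∀ y : Vec, Bf y y = 0 := sympBilin_isAlt m F
  have h' : Bf w u = 0 := by rw [form_symm2, h]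
  rw [S, Submonoid.coe_mul, Submonoid.coe_mul, ← mulVec_mulVec, ← mulVec_mulVec, tv_mulVec, tv_mulVec, tv_mulVec]
  simp only [map_add, map_smul, LinearMap.add_apply, LinearMap.smul_apply, huu, h, h', smul_eq_mul, mul_zero,
    add_zero, zero_mul]
  funext i
  simp only [Pi.add_apply, Pi.smul_apply, smul_eq_mul]
  linear_combination (b * Bf x u * u i + b * Bf x w * w i) * two_eq (F := F)

theorem S_zero {u w : Vec} (h : Bf u w = 0) (a : F) : S u w a 0 = tv u a :=
  sp_ext fun x => by rw [S_mulVec h, tv_mulVec]; simp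

theorem S_conj (g : Spm) (u w : Vec) (a b : F) :
    g * S u w a b * g⁻¹ = S ((g : Big) *ᵥ u) ((g : Big) *ᵥ w) a b := by
  rw [S, S, ← mulVec_add, ← tv_conj, ← tv_conj, ← tv_conj]
  group

theorem move {x y : Vec} (h : Bf x y = 1) : ((tv (x + y) 1 : Spm) : Big) *ᵥ x = y := by
  rw [tv_mulVec, map_add, sympBilin_isAlt m F x, h, zero_add, one_mul, one_smul]
  funext i
  simp only [Pi.add_apply]
  linear_combination (x i) * two_eq (F := F)

theorem move_fix {x y c : Vec} (h1 : Bf c x = 0) (h2 : Bf c y = 0) : ((tv (x + y) 1 : Spm) : Big) *ᵥ c = c := by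
  rw [tv_mulVec, map_add, h1, h2, add_zero, mul_zero, zero_smul, add_zero]

theorem exists_move {x k y c : Vec} (h1 : Bf x k = 1) (h2 : Bf k y = 1) (hx : Bf c x = 0) (hk : Bf c k = 0)
    (hy : Bf c y = 0) : ∃ g : Spm, (g : Big) *ᵥ x = y ∧ (g : Big) *ᵥ c = c :=
  ⟨tv (k + y) 1 * tv (x + k) 1, by rw [Submonoid.coe_mul, ← mulVec_mulVec, move h1, move h2],
    by rw [Submonoid.coe_mul, ← mulVec_mulVec, move_fix hx hk, move_fix hk hy]⟩

theorem orderOf_S_mul {u t v w : Vec} {a b : F} (hb : b ≠ 0) (hut : Bf u t = 0) (huv : Bf u v = 0)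
    (huw : Bf u w = 0) (htv : Bf t v = 0) (hvw : Bf v w = 0) (htw : Bf t w = 1)
    {x : Vec} (hxu : Bf x u = 1) (hxv : Bf x v = 0) (hv : v ≠ 0) :
    orderOf (S u t a b * S v w a b) = 4 := by
  have huu : ∀ y : Vec, Bf y y = 0 := sympBilin_isAlt m F
  have hvu : Bf v u = 0 := by rw [form_symm2, huv]
  have hwu : Bf w u = 0 := by rw [form_symm2, huw]
  have hvt : Bf v t = 0 := by rw [form_symm2, htv]
  have hwt : Bf w t = 1 := by rw [form_symm2, htw]
  have htu : Bf t u = 0 := by rw [form_symm2, hut]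
  have hwv : Bf w v = 0 := by rw [form_symm2, hvw]
  set y : Spm := S u t a b * S v w a b with hy
  have hy1 : ∀ z : Vec, (y : Big) *ᵥ z = z + (a * Bf z v + b * Bf z w) • v + (b * Bf z v) • w +
      (a * Bf z u + b * (Bf z t + b * Bf z v)) • u + (b * Bf z u) • t := by
    intro z
    rw [hy, Submonoid.coe_mul, ← mulVec_mulVec, S_mulVec hvw, S_mulVec hut]
    simp only [map_add, map_smul, LinearMap.add_apply, LinearMap.smul_apply, huu, hvu, hwu, hvt, hwt,
      smul_eq_mul, mul_zero, add_zero, mul_one]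
  have hy2 : ∀ z : Vec, ((y ^ 2 : Spm) : Big) *ᵥ z = z + (b * b * Bf z v) • u + (b * b * Bf z u) • v := by
    intro z
    rw [pow_two, Submonoid.coe_mul, ← mulVec_mulVec, hy1 z, hy1]
    simp only [map_add, map_smul, LinearMap.add_apply, LinearMap.smul_apply, huu, hut, huv, huw, htu, htv, htw,
      hvu, hvw, hvt, hwu, hwv, hwt, smul_eq_mul, mul_zero, add_zero, mul_one]
    funext i
    simp only [Pi.add_apply, Pi.smul_apply, smul_eq_mul]
    linear_combination ((a * Bf z v + b * Bf z w) * v i + b * Bf z v * w i +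
      (a * Bf z u + b * Bf z t + b * b * Bf z v) * u i + b * Bf z u * t i) * two_eq (F := F)
  have hne : y ^ 2 ≠ 1 := fun h => by
    have e := hy2 x
    rw [h, OneMemClass.coe_one, one_mulVec, hxu, hxv, mul_zero, zero_smul, add_zero, mul_one] at e
    have e' : (b * b) • v = 0 := by
      have := congrArg (fun s => s - x) e
      simpa using this.symm
    rcases smul_eq_zero.1 e' with h0 | h0
    · exact hb (mul_self_eq_zero.1 h0)
    · exact hv h0
  have h4 : y ^ 4 = 1 := sp_ext fun z => by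
    rw [show (4 : ℕ) = 2 + 2 from rfl, pow_add, Submonoid.coe_mul, ← mulVec_mulVec, hy2 z, hy2, OneMemClass.coe_one,
      one_mulVec]
    simp only [map_add, map_smul, LinearMap.add_apply, LinearMap.smul_apply, huu, huv, hvu, smul_eq_mul, mul_zero,
      add_zero]
    funext i
    simp only [Pi.add_apply, Pi.smul_apply, smul_eq_mul]
    linear_combination (b * b * Bf z v * u i + b * b * Bf z u * v i) * two_eq (F := F)
  have : Fact (Nat.Prime 2) := ⟨Nat.prime_two⟩
  exact orderOf_eq_prime_pow (p := 2) (n := 1) (by simpa using hne) (by simpa using h4)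

theorem tv_mul_self (v : Vec) (a : F) : tv v a * tv v a = 1 := by
  rw [← tv_add, CharTwo.add_self_eq_zero, tv_zero]

theorem orderOf_tv_mul_ne (u w : Vec) (a c : F) : orderOf (tv u a * tv w c) ≠ 4 := by
  intro h4
  set s := Bf u w with hs
  have hw : Bf w u = s := form_symm2 w u
  have huu : ∀ y : Vec, Bf y y = 0 := sympBilin_isAlt m F
  by_cases hz : a = 0 ∨ c = 0 ∨ s = 0
  · have hsq : (tv u a * tv w c) ^ 2 = 1 := by
      rcases hz with rfl | rfl | hz
      · rw [tv_zero, one_mul, pow_two, tv_mul_self]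
      · rw [tv_zero, mul_one, pow_two, tv_mul_self]
      · have hc : Commute (tv u a) (tv w c) := by
          show tv u a * tv w c = tv w c * tv u a
          rw [← mul_inv_eq_iff_eq_mul, tv_conj, tv_mulVec, hw, hz, mul_zero, zero_smul, add_zero]
        rw [hc.mul_pow, pow_two, pow_two, tv_mul_self, tv_mul_self, one_mul]
    have := orderOf_le_of_pow_eq_one two_pos hsq
    omega
  push Not at hz
  obtain ⟨ha, hc, hs0⟩ := hz
  set y : Spm := tv u a * tv w c with hy
  let M : Vec → Vec := fun x => (y : Big) *ᵥ x + x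
  have hM2 : ∀ x, M (M x) = ((y ^ 2 : Spm) : Big) *ᵥ x + x := fun x => by
    show (y : Big) *ᵥ ((y : Big) *ᵥ x + x) + ((y : Big) *ᵥ x + x) = _
    rw [mulVec_add, show ((y ^ 2 : Spm) : Big) *ᵥ x = (y : Big) *ᵥ ((y : Big) *ᵥ x) by
      rw [mulVec_mulVec, pow_two]; rfl]
    funext i
    simp only [Pi.add_apply]
    linear_combination (((y : Big) *ᵥ x) i) * two_eq (F := F)
  have hM4 : M (M (M (M u))) = 0 := by
    rw [hM2 (M (M u)), hM2 u, mulVec_add, mulVec_mulVec, ← Submonoid.coe_mul, ← pow_add,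
      show 2 + 2 = orderOf y from h4.symm, pow_orderOf_eq_one, OneMemClass.coe_one, one_mulVec]
    funext i
    simp only [Pi.add_apply, Pi.zero_apply]
    linear_combination (u i + (((y ^ 2 : Spm) : Big) *ᵥ u) i) * two_eq (F := F)
  have hMlin : ∀ α β : F, M (α • u + β • w) = (α * (a * c * s * s) + β * (a * s)) • u + (α * (c * s)) • w := by
    intro α β
    show (y : Big) *ᵥ _ + _ = _
    rw [hy, Submonoid.coe_mul, ← mulVec_mulVec, tv_mulVec, tv_mulVec]
    simp only [map_add, map_smul, LinearMap.add_apply, LinearMap.smul_apply, huu, hw, ← hs, smul_eq_mul, mul_zero,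
      add_zero, zero_add]
    funext i
    simp only [Pi.add_apply, Pi.smul_apply, smul_eq_mul]
    linear_combination (α * u i + β * w i) * two_eq (F := F)
  have hli : ∀ α β : F, α • u + β • w = 0 → α = 0 ∧ β = 0 := by
    intro α β h
    have h1 := congrArg (fun x => Bf x w) h
    have h2 := congrArg (fun x => Bf x u) h
    simp [huu, hw, ← hs, hs0] at h1 h2
    exact ⟨h1, h2⟩
  have hstep : ∀ x : Vec, (∃ α β : F, x = α • u + β • w ∧ x ≠ 0) → ∃ α β : F, M x = α • u + β • w ∧ M x ≠ 0 := by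
    rintro x ⟨α, β, rfl, hx⟩
    refine ⟨_, _, hMlin α β, fun h0 => hx ?_⟩
    rw [hMlin] at h0
    obtain ⟨h1, h2⟩ := hli _ _ h0
    have hα : α = 0 := by simpa [hc, hs0] using h2
    have hβ : β = 0 := by simpa [hα, ha, hs0] using h1
    rw [hα, hβ, zero_smul, zero_smul, add_zero]
  have hu : ∃ α β : F, u = α • u + β • w ∧ u ≠ 0 :=
    ⟨1, 0, by rw [one_smul, zero_smul, add_zero], fun h => hs0 (by rw [hs, h, map_zero, LinearMap.zero_apply])⟩
  obtain ⟨_, _, _, h⟩ := hstep _ (hstep _ (hstep _ (hstep u hu)))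
  exact h hM4

theorem π_injective (hm : 1 ≤ m) : Function.Injective π' := by
  refine (MonoidHom.ker_eq_bot_iff _).1 ((Subgroup.eq_bot_iff_forall _).2 fun z hz => ?_)
  rw [QuotientGroup.ker_mk'] at hz
  obtain ⟨c, -, hc⟩ := center_scalar hm hz
  let o : Fin m := ⟨0, hm⟩
  have h1 := sp_form z (fr o) (el o)
  rw [hc, hc, map_smul, map_smul, LinearMap.smul_apply, B_el, smul_eq_mul, smul_eq_mul] at h1
  have hc1 : c = 1 := by
    simp [fr] at h1
    have : (c - 1) * (c - 1) = 0 := by linear_combination h1 + (1 - c) * two_eq (F := F)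
    exact sub_eq_zero.1 (mul_self_eq_zero.1 this)
  exact sp_ext fun x => by rw [hc, hc1, one_smul, OneMemClass.coe_one, one_mulVec]

/-- No conjugate gives a product of order four. -/
def OddProd {G : Type*} [Group G] (x : G) : Prop := ∀ g : G, orderOf (x * (g * x * g⁻¹)) ≠ 4

theorem oddProd_map {G : Type*} [Group G] (e : MulAut G) {x : G} (h : OddProd x) : OddProd (e x) := by
  intro g
  obtain ⟨g, rfl⟩ := e.surjective g
  rw [← map_inv, ← map_mul, ← map_mul, ← map_mul, MulEquiv.orderOf_eq]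
  exact h g

theorem center_sylU2 (hm : 2 ≤ m) {z : Spm} (hz : z ∈ sylU F m) (hc : ∀ u ∈ sylU F m, z * u = u * z) :
    ∃ a b : F, z = S (el (⟨0, by omega⟩ : Fin m)) (el ⟨1, by omega⟩) a b := by
  obtain ⟨X, hX, rfl⟩ := mem_siegel.1 (siegel_centralizer hz fun r hr => hc r (siegel_le hr))
  have hent : ∀ i j : Fin m, i < j → ∀ a b : Fin m,
      ((1 + Matrix.single i j (1 : F)) * X * (1 + Matrix.single j i (1 : F))) a b = X a b := by
    intro i j hij a b
    let M : Matrix.SpecialLinearGroup (Fin m) F := Matrix.SpecialLinearGroup.transvection hij.ne 1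
    have h1 : leviSL M * tr X hX * (leviSL M)⁻¹ = tr X hX := by
      rw [mul_inv_eq_iff_eq_mul, hc _ (leviSL_mem (upperUni_transvection hij 1))]
    rw [leviSL, MonoidHom.comp_apply, levi_conj_tr] at h1
    have h4 := congrArg (fun g : Spm => (g : Big).toBlocks₁₂) h1
    simp only [coe_tr, toBlocks_fromBlocks₁₂] at h4
    have hM : (M : Mat) = 1 + Matrix.single i j (1 : F) := rfl
    have hT : (1 + Matrix.single i j (1 : F))ᵀ = 1 + Matrix.single j i (1 : F) := by
      rw [transpose_add, transpose_one, transpose_single]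
    rw [← congrFun (congrFun h4 a) b]
    show _ = ((M : Mat) * X * (M : Mat)ᵀ) a b
    rw [hM, hT]
  have hexp : ∀ i j a b : Fin m, a ≠ i → b = i →
      ((1 + Matrix.single i j (1 : F)) * X * (1 + Matrix.single j i (1 : F))) a b = X a b + X a j := by
    intro i j a b ha hb
    simp only [add_mul, mul_add, one_mul, mul_one, Matrix.add_apply]
    simp [hb, ha]
  let o : Fin m := ⟨0, by omega⟩
  let l : Fin m := ⟨1, by omega⟩
  have hsym : ∀ a b, X a b = X b a := fun a b => congrFun (congrFun hX b) a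
  have hoff : ∀ a j : Fin m, a ≠ o → j ≠ o → X a j = 0 := fun a j ha hj => by
    have h := hent o j (lt_of_le_of_ne (Nat.zero_le _) (Ne.symm hj)) a o
    rw [hexp o j a o ha rfl, add_eq_left] at h
    exact h
  have hrow : ∀ j : Fin m, l < j → X o j = 0 := fun j hj => by
    have h := hent l j hj o l
    rw [hexp l j o l (by simp [o, l]) rfl, add_eq_left] at h
    exact h
  refine ⟨X o o, X o l, sp_ext fun x => ?_⟩
  rw [S_mulVec (by rw [B_el]; simp [el]), B_el, B_el, coe_tr, fromBlocks_mulVec]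
  have hsum : ∀ i, (X *ᵥ (x ∘ Sum.inr)) i = X i o * x (Sum.inr o) + X i l * x (Sum.inr l) := by
    intro i
    rw [mulVec, dotProduct, Finset.sum_eq_add o l (by simp [o, l])]
    · rfl
    · intro j _ hj
      rcases eq_or_ne i o with rfl | hi
      · rw [hrow j ?_, zero_mul]
        have h0 : j.val ≠ 0 := fun h0 => hj.1 (Fin.ext h0)
        have h1 : j.val ≠ 1 := fun h1 => hj.2 (Fin.ext h1)
        show 1 < j.val
        omega
      · rw [hoff i j hi hj.1, zero_mul]
    · simp
    · simp
  funext k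
  rcases k with i | i
  · simp only [Sum.elim_inl, one_mulVec, Pi.add_apply, Pi.smul_apply, smul_eq_mul, Function.comp_apply, hsum, el]
    rcases eq_or_ne i o with rfl | hi
    · simp [o, l]
    · rcases eq_or_ne i l with rfl | hl
      · rw [hoff l l hi hi, hsym l o]; simp [o, l]
      · rw [hoff i l hi (by simp [o, l]), hsym i o, hrow i ?_]
        · simp [hi, hl, o, l]
        · have h0 : i.val ≠ 0 := fun h0 => hi (Fin.ext h0)
          have h1 : i.val ≠ 1 := fun h1 => hl (Fin.ext h1)
          show 1 < i.val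
          omega
  · simp [el]

theorem not_oddProd_S (hm : 3 ≤ m) {a b : F} (hb : b ≠ 0) :
    ¬ OddProd (π' (S (el (⟨0, by omega⟩ : Fin m)) (el ⟨1, by omega⟩) a b)) := by
  let o : Fin m := ⟨0, by omega⟩
  let l : Fin m := ⟨1, by omega⟩
  let k : Fin m := ⟨2, by omega⟩
  have hol : o ≠ l := by simp [o, l]
  have hok : o ≠ k := by simp [o, k]
  have hlk : l ≠ k := by simp [l, k]
  obtain ⟨g, hg1, hg2⟩ := exists_move (F := F) (x := el l) (k := fr l + fr k) (y := el k) (c := el o)
    (by simp only [map_add, LinearMap.add_apply, B_el, B_fr] <;> simp [el, hlk, hlk.symm]) (by simp only [map_add, LinearMap.add_apply, B_el, B_fr] <;> simp [fr, hlk, hlk.symm]) (by simp only [map_add, LinearMap.add_apply, B_el, B_fr] <;> simp [el])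
    (by simp only [map_add, LinearMap.add_apply, B_el, B_fr] <;> simp [el, hol.symm, hok.symm]) (by simp only [map_add, LinearMap.add_apply, B_el, B_fr] <;> simp [el])
  obtain ⟨g', hg1', hg2'⟩ := exists_move (F := F) (x := el o) (k := fr o + fr l) (y := el l) (c := el k)
    (by simp only [map_add, LinearMap.add_apply, B_el, B_fr] <;> simp [el, hol, hol.symm]) (by simp only [map_add, LinearMap.add_apply, B_el, B_fr] <;> simp [fr, hol, hol.symm]) (by simp only [map_add, LinearMap.add_apply, B_el, B_fr] <;> simp [el])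
    (by simp only [map_add, LinearMap.add_apply, B_el, B_fr] <;> simp [el, hok, hlk]) (by simp only [map_add, LinearMap.add_apply, B_el, B_fr] <;> simp [el])
  let h : Spm := tv (el k + fr k) 1
  have hh1 : (h : Big) *ᵥ el k = fr k := move (by simp only [map_add, LinearMap.add_apply, B_el, B_fr] <;> simp [el])
  have hh2 : (h : Big) *ᵥ el l = el l := move_fix (by simp only [map_add, LinearMap.add_apply, B_el, B_fr] <;> simp [el]) (by simp only [map_add, LinearMap.add_apply, B_el, B_fr] <;> simp [el, hlk.symm])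
  intro hodd
  set z := S (el o) (el l) a b
  have e1 : g * z * g⁻¹ = S (el o) (el k) a b := by rw [S_conj, hg1, hg2]
  have e2 : h * (g' * S (el o) (el k) a b * g'⁻¹) * h⁻¹ = S (el l) (fr k) a b := by
    rw [S_conj, hg1', hg2', S_conj, hh1, hh2]
  have hord : orderOf (S (el o) (el k) a b * S (el l) (fr k) a b) = 4 := by
    refine orderOf_S_mul hb ?_ ?_ ?_ ?_ ?_ ?_ (x := fr o) ?_ ?_ ?_
    · simp only [map_add, LinearMap.add_apply, B_el, B_fr] <;> simp [el]
    · simp only [map_add, LinearMap.add_apply, B_el, B_fr] <;> simp [el]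
    · simp only [map_add, LinearMap.add_apply, B_el, B_fr] <;> simp [el, hok.symm]
    · simp only [map_add, LinearMap.add_apply, B_el, B_fr] <;> simp [el]
    · simp only [map_add, LinearMap.add_apply, B_el, B_fr] <;> simp [el, hlk.symm]
    · simp only [map_add, LinearMap.add_apply, B_el, B_fr] <;> simp [el]
    · simp only [map_add, LinearMap.add_apply, B_el, B_fr] <;> simp [fr]
    · simp only [map_add, LinearMap.add_apply, B_el, B_fr] <;> simp [fr, hol.symm]
    · exact Pi.single_ne_zero_iff.2 one_ne_zero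
  rw [← e2, ← e1] at hord
  refine hodd (π' (g⁻¹ * h * g' * g)) ?_
  rw [← map_inv, ← map_mul, ← map_mul, ← map_mul,
    orderOf_injective π' (π_injective (by omega)), ← hord]
  rw [← MulEquiv.orderOf_eq (MulAut.conj g)]
  congr 1
  rw [MulAut.conj_apply]
  group

theorem mem_R_e0_iff (hm : 3 ≤ m) (x : Pm) :
    x ∈ R (e0 F (m := m) (by omega)) ↔ x ∈ zc ((sylU F m).map π') ∧ OddProd x := by
  have hπ := π_injective (F := F) (m := m) (by omega)
  constructor
  · intro hx
    obtain ⟨a, rfl⟩ := mem_R.1 hx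
    refine ⟨⟨⟨_, tv_mem_sylU _ a, rfl⟩, ?_⟩, fun g => ?_⟩
    · rintro _ ⟨u, hu, rfl⟩
      show π' u * π' (tv _ a) = π' (tv _ a) * π' u
      rw [← map_mul, ← map_mul]
      refine congrArg π' ?_
      rw [← mul_inv_eq_iff_eq_mul, tv_conj]
      congr 1
      funext i
      rw [e0, mulVec_single_one, ← fix_of_mem_sylU (F := F) (m := m) (by omega) hu]
      exact (congrFun (mulVec_single_one _ _) i).symm
    · obtain ⟨g, rfl⟩ := QuotientGroup.mk'_surjective _ g
      rw [← map_inv, ← map_mul, ← map_mul, ← map_mul, orderOf_injective π' hπ, tv_conj]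
      exact orderOf_tv_mul_ne _ _ _ _
  · rintro ⟨⟨⟨z, hz, rfl⟩, hc⟩, hodd⟩
    obtain ⟨a, b, rfl⟩ := center_sylU2 (show 2 ≤ m by omega) hz fun u hu => by
      have h := hc _ ⟨u, hu, rfl⟩
      exact (hπ (by rw [map_mul, map_mul]; exact h)).symm
    by_cases hb : b = 0
    · subst hb
      exact mem_R.2 ⟨a, congrArg π' (S_zero (by rw [B_el]; exact Pi.single_eq_of_ne (by simp) _) a).symm⟩
    · exact absurd hodd (not_oddProd_S hm hb)

/-- Automorphisms permute the transvection groups. -/
theorem R_map_aut_two (hm : 3 ≤ m) (α : MulAut Pm) {v : Vec} (hv : v ≠ 0) :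
    ∃ w : Vec, w ≠ 0 ∧ (R v).map α.toMonoidHom = R w := by
  have : Fact (Nat.Prime 2) := ⟨Nat.prime_two⟩
  obtain ⟨Q, hQ⟩ := exists_sylow (F := F) (m := m) 2
  let P : Sylow 2 Pm := Q.mapSurjective (f := π') (QuotientGroup.mk'_surjective _)
  have hP : (P : Subgroup Pm) = (sylU F m).map π' := by
    rw [← hQ]; rfl
  let P' : Sylow 2 Pm := P.mapSurjective (f := α.toMonoidHom) α.surjective
  obtain ⟨y, hy⟩ := MulAction.exists_smul_eq Pm P P'
  have hy' : (P : Subgroup Pm).map (MulAut.conj y).toMonoidHom = (P : Subgroup Pm).map α.toMonoidHom := by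
    have := congrArg (fun S : Sylow 2 Pm => (S : Subgroup Pm)) hy
    simp only [Sylow.coe_subgroup_smul] at this
    exact this
  obtain ⟨g, rfl⟩ := QuotientGroup.mk'_surjective _ y
  have hmap : ∀ (e : MulAut Pm) (x : Pm), x ∈ (R (e0 F (m := m) (by omega))).map e.toMonoidHom ↔
      x ∈ (zc ((sylU F m).map π')).map e.toMonoidHom ∧ OddProd x := by
    intro e x
    constructor
    · rintro ⟨z, hz, rfl⟩
      obtain ⟨h1, h2⟩ := (mem_R_e0_iff hm z).1 hz
      exact ⟨⟨z, h1, rfl⟩, oddProd_map e h2⟩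
    · rintro ⟨⟨z, hz, rfl⟩, h2⟩
      refine ⟨z, (mem_R_e0_iff hm z).2 ⟨hz, ?_⟩, rfl⟩
      have := oddProd_map e.symm h2
      rwa [show e.symm (e.toMonoidHom z) = z from e.symm_apply_apply z] at this
  have he : (R (e0 F (m := m) (by omega))).map α.toMonoidHom = R ((g : Big) *ᵥ e0 F (by omega)) := by
    rw [← R_map_conj]
    ext x
    rw [hmap, hmap, ← hP, ← zc_map α, ← zc_map (MulAut.conj (π' g)), hy']
  obtain ⟨h, hh⟩ := transitive (F := F) (m := m) (e0_ne (by omega)) hv
  obtain ⟨h', hh'⟩ := QuotientGroup.mk'_surjective (Subgroup.center Spm) (α (π' h))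
  refine ⟨(h' : Big) *ᵥ ((g : Big) *ᵥ e0 F (by omega)), fun h0 => e0_ne (F := F) (m := m) (by omega) ?_, ?_⟩
  · rw [← sp_inv_mulVec g (e0 F (by omega)), ← sp_inv_mulVec h' ((g : Big) *ᵥ e0 F (by omega)), h0, mulVec_zero,
      mulVec_zero]
  · rw [← R_map_conj h', ← he, ← hh, ← R_map_conj h, Subgroup.map_map, Subgroup.map_map]
    congr 1
    refine MonoidHom.ext fun z => ?_
    show α (π' h * z * (π' h)⁻¹) = π' h' * α z * (π' h')⁻¹
    rw [hh', map_mul, map_mul, map_inv]

theorem gamma_eq_top_two (hm : 3 ≤ m) : Cfsg.gammaPSp m F = ⊤ := by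
  rw [eq_top_iff]
  rintro α -
  obtain ⟨g, σ, rfl⟩ := exists_decomp_of_R (by omega) (fun β _ hv => R_map_aut_two hm β hv) α
  exact Subgroup.subset_closure ⟨(g : GL (Fin m ⊕ Fin m) F), σ, g.2, induced_iff.2 rfl⟩

end Cfsg.Lib.Sympl
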