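import Cfsg.Agent.Known.Sympl.Basic
import Mathlib.Algebra.CharP.Two

/-!
Centralisers of symplectic transvections in characteristic two.
-/

set_option autoImplicit false
set_option linter.unusedSectionVars false
set_option linter.style.haveILetI false

namespace Cfsg.Lib.Sympl

open Matrix Cfsg.Lib.Classical Cfsg.Lib.Fusion.PSp

variable {F : Type*} [Field F] [Fintype F] {m : ℕ}

local notation "Vec" => (Fin m ⊕ Fin m → F)
local notation "Big" => Matrix (Fin m ⊕ Fin m) (Fin m ⊕ Fin m) F
local notation "Spm" => Matrix.symplecticGroup (Fin m) F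
local notation "Bf" => sympBilin m F

/-- The stabiliser of a vector. -/
def vecStab (v : Vec) : Subgroup Spm where
  carrier := {g | (g : Big) *ᵥ v = v}
  one_mem' := by simp
  mul_mem' {a b} ha hb := by
    simp only [Set.mem_ofPred_eq] at ha hb ⊢
    rw [Submonoid.coe_mul, ← mulVec_mulVec, hb, ha]
  inv_mem' {a} ha := by
    simp only [Set.mem_ofPred_eq] at ha ⊢
    conv_lhs => rw [← ha]
    exact sp_inv_mulVec a v

theorem mem_vecStab {v : Vec} {g : Spm} : g ∈ vecStab v ↔ (g : Big) *ᵥ v = v := Iff.rfl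

theorem card_vecStab {v : Vec} (hv : v ≠ 0) :
    Nat.card (vecStab v) * (Fintype.card F ^ (2 * m) - 1) = Nat.card Spm := by
  classical
  have hidx : (vecStab v).index = Fintype.card F ^ (2 * m) - 1 := by
    let f : Spm ⧸ vecStab v → {w : Vec // w ≠ 0} := fun x =>
      Quotient.liftOn' x (fun g => ⟨(g : Big) *ᵥ v, fun h => hv (by rw [← sp_inv_mulVec g v, h, mulVec_zero])⟩)
        fun g h hgh => Subtype.ext (by
          rw [QuotientGroup.leftRel_apply, mem_vecStab, Submonoid.coe_mul, ← mulVec_mulVec] at hgh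
          show (g : Big) *ᵥ v = (h : Big) *ᵥ v
          conv_lhs => rw [← hgh]
          exact (mulVec_mulVec _ _ _).trans (by rw [← Submonoid.coe_mul, mul_inv_cancel]; exact one_mulVec _))
    have hf : Function.Bijective f := by
      constructor
      · intro x y
        induction x using QuotientGroup.induction_on with
        | H g => induction y using QuotientGroup.induction_on with
          | H h =>
            intro e
            have e' : (g : Big) *ᵥ v = (h : Big) *ᵥ v := congrArg Subtype.val e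
            rw [QuotientGroup.eq, mem_vecStab, Submonoid.coe_mul, ← mulVec_mulVec, ← e', sp_inv_mulVec]
      · rintro ⟨w, hw⟩
        obtain ⟨g, hg⟩ := transitive hv hw
        exact ⟨QuotientGroup.mk g, Subtype.ext hg⟩
    rw [Subgroup.index, Nat.card_congr (Equiv.ofBijective f hf), Nat.card_eq_fintype_card,
      Fintype.card_subtype_compl, Fintype.card_subtype_eq, Fintype.card_fun]
    simp [two_mul]
  rw [← hidx, Subgroup.card_mul_index]

/-- A symplectic element moving a line only is a transvection. -/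
theorem exists_tv [CharP F 2] {t : Spm} (ht : ((t : Big) - 1).rank = 1) :
    ∃ (v : Vec) (c : F), v ≠ 0 ∧ c ≠ 0 ∧ t = tv v c := by
  have hsym : ∀ u w : Vec, Bf u w = Bf w u := fun u w => by
    rw [← LinearMap.IsAlt.neg (sympBilin_isAlt m F) w u, CharTwo.neg_eq]
  obtain ⟨v₀, hv0, hspan⟩ := finrank_eq_one_iff'.1 (ht : Module.finrank F ((t : Big) - 1).mulVecLin.range = 1)
  set v : Vec := v₀.1 with hvdef
  have hv : v ≠ 0 := fun h => hv0 (Subtype.ext h)
  have hdec : ∀ x : Vec, ∃ a : F, (t : Big) *ᵥ x = x + a • v := fun x => by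
    obtain ⟨a, ha⟩ := hspan ⟨((t : Big) - 1) *ᵥ x, x, rfl⟩
    refine ⟨a, ?_⟩
    have ha' : a • v = ((t : Big) - 1) *ᵥ x := congrArg Subtype.val ha
    rw [ha', sub_mulVec, one_mulVec]; abel
  choose a ha using hdec
  obtain ⟨y, hy⟩ : ∃ y : Vec, Bf y v ≠ 0 := by
    by_contra h
    push Not at h
    exact hv ((sympBilin_nondegenerate m F).2 v h)
  obtain ⟨y, hy⟩ : ∃ z : Vec, Bf z v = 1 := ⟨(Bf y v)⁻¹ • y, by
    rw [map_smul, LinearMap.smul_apply, smul_eq_mul, inv_mul_cancel₀ hy]⟩
  have hrel : ∀ x z : Vec, a z * Bf x v + a x * Bf z v = 0 := fun x z => by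
    have h := sp_form t x z
    rw [ha, ha] at h
    simp only [map_add, map_smul, LinearMap.add_apply, LinearMap.smul_apply, smul_eq_mul,
      sympBilin_isAlt m F v, mul_zero, add_zero] at h
    rw [hsym v z] at h
    linear_combination h
  have hax : ∀ x : Vec, a x = a y * Bf x v := fun x => by
    have h := hrel x y
    rw [hy, mul_one] at h
    exact (CharTwo.add_eq_zero.1 h).symm
  refine ⟨v, a y, hv, fun h0 => ?_, sp_ext fun x => by rw [tv_mulVec, ← hax, ha]⟩
  obtain ⟨x, hx⟩ : ∃ x, ((t : Big) - 1) *ᵥ x ≠ 0 := by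
    by_contra h
    push Not at h
    obtain ⟨z, hz⟩ := v₀.2
    exact hv ((hz.symm.trans (h z) : v₀.1 = 0))
  refine hx ?_
  rw [sub_mulVec, one_mulVec, ha, hax, h0, zero_mul, zero_smul, add_zero, sub_self]

theorem centralizer_tv [CharP F 2] {v : Vec} {c : F} (hv : v ≠ 0) (hc : c ≠ 0) :
    Subgroup.centralizer ({tv v c} : Set Spm) = vecStab v := by
  ext g
  rw [Subgroup.mem_centralizer_singleton_iff, mem_vecStab]
  constructor
  · intro h
    have e : tv ((g : Big) *ᵥ v) c = tv v c := by rw [← tv_conj, h, mul_inv_cancel_right]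
    obtain ⟨y, hy⟩ : ∃ y : Vec, Bf y v ≠ 0 := by
      by_contra h
      push Not at h
      exact hv ((sympBilin_nondegenerate m F).2 v h)
    set w := (g : Big) *ᵥ v with hw
    have key : ∀ x : Vec, (c * Bf x w) • w = (c * Bf x v) • v := fun x => by
      have := congrArg (fun s : Spm => (s : Big) *ᵥ x) e
      simp only [tv_mulVec] at this
      exact add_left_cancel this
    have hyv := key y
    have hyw : c * Bf y w ≠ 0 := fun h0 => by
      rw [h0, zero_smul] at hyv
      exact hv ((smul_eq_zero.1 hyv.symm).resolve_left (mul_ne_zero hc hy))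
    obtain ⟨l, hl⟩ : ∃ l : F, w = l • v := ⟨(c * Bf y w)⁻¹ * (c * Bf y v), by
      rw [mul_smul, ← hyv, smul_smul, inv_mul_cancel₀ hyw, one_smul]⟩
    rw [hl, map_smul, smul_eq_mul, smul_smul] at hyv
    have h2 := smul_left_injective F hv hyv
    have hl1 : l * l = 1 := mul_left_cancel₀ (mul_ne_zero hc hy) (by linear_combination h2)
    have hl2 : l = 1 := by
      have : (l + 1) * (l + 1) = 0 := by rw [CharTwo.add_mul_self, hl1, one_mul, CharTwo.add_self_eq_zero]
      exact CharTwo.add_eq_zero.1 ((mul_eq_zero.1 this).elim id id)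
    rw [hl, hl2, one_smul]
  · intro h
    have := tv_conj g v c
    rw [h] at this
    exact mul_inv_eq_iff_eq_mul.1 this

theorem card_centralizer_transvection [CharP F 2] {q : ℕ} (hF : Fintype.card F = q) (hm : 1 ≤ m) (t : Spm)
    (ht : ((t : Big) - 1).rank = 1) :
    Nat.card ↥(Subgroup.centralizer ({t} : Set Spm)) =
      q ^ (2 * m - 1) * (q ^ ((m - 1) ^ 2) * ∏ i : Fin (m - 1), (q ^ (2 * ((i : ℕ) + 1)) - 1)) := by
  obtain ⟨v, c, hv, hc, rfl⟩ := exists_tv ht
  have h := card_vecStab (F := F) hv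
  rw [← centralizer_tv hv hc, Cfsg.Lib.Classical.card_symplecticGroup, Nat.card_eq_fintype_card (α := F), hF] at h
  obtain ⟨k, rfl⟩ : ∃ k, m = k + 1 := ⟨m - 1, by omega⟩
  have hq : 2 ≤ q := hF ▸ Fintype.one_lt_card
  have hpos : 0 < q ^ (2 * (k + 1)) - 1 := Nat.sub_pos_of_lt (Nat.one_lt_pow (by omega) hq)
  refine Nat.eq_of_mul_eq_mul_right hpos (h.trans ?_)
  rw [Finset.prod_range_succ, Fin.prod_univ_eq_prod_range (fun i => q ^ (2 * (i + 1)) - 1),
    Nat.add_sub_cancel, show (k + 1) ^ 2 = 2 * (k + 1) - 1 + k ^ 2 by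
      rw [show 2 * (k + 1) - 1 = 2 * k + 1 by omega]; ring, pow_add]
  ring

end Cfsg.Lib.Sympl
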