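import Cfsg.Agent.Fusion.PSp.Sylow
import Cfsg.Prelude.Def_LieTypeDatum
import Cfsg.Agent.Classical.Symp.Standard

/-!
Semilinear similitudes acting on `PSp (2m, q)`, and the transvection groups.
-/

set_option autoImplicit false
set_option linter.unusedSectionVars false

namespace Cfsg.Lib.Sympl

open Matrix Cfsg.Lib.Classical

variable {F : Type*} [Field F] {m : ℕ}

local notation "Vec" => (Fin m ⊕ Fin m → F)
local notation "Big" => Matrix (Fin m ⊕ Fin m) (Fin m ⊕ Fin m) F
local notation "GLB" => GL (Fin m ⊕ Fin m) F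
local notation "Spm" => Matrix.symplecticGroup (Fin m) F
local notation "Pm" => Cfsg.PSp m F
local notation "π'" => QuotientGroup.mk' (Subgroup.center (Matrix.symplecticGroup (Fin m) F))
local notation "JJ" => Matrix.J (Fin m) F
local notation "Bf" => sympBilin m F

theorem form_mul (A : Big) (u v : Vec) : Bf (A *ᵥ u) (A *ᵥ v) = u ⬝ᵥ ((Aᵀ * JJ * A) *ᵥ v) := by
  rw [sympBilin_apply, ← mulVec_mulVec, ← mulVec_mulVec, dotProduct_mulVec u Aᵀ, vecMul_transpose]

theorem ext_form (A B : Big) (h : ∀ u v : Vec, u ⬝ᵥ (A *ᵥ v) = u ⬝ᵥ (B *ᵥ v)) : A = B := by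
  ext i j
  simpa using h (Pi.single i 1) (Pi.single j 1)

theorem gsp_iff (g : GLB) : g ∈ Cfsg.GSp m F ↔ ∃ c : Fˣ, (g : Big)ᵀ * JJ * (g : Big) = (c : F) • JJ := by
  refine exists_congr fun c => ⟨fun h => ext_form _ _ fun u v => ?_, fun h u v => ?_⟩
  · rw [← form_mul, smul_mulVec, dotProduct_smul, ← sympBilin_apply, sympBilin_eq_sympForm, sympBilin_eq_sympForm]
    exact h u v
  · rw [← sympBilin_eq_sympForm, ← sympBilin_eq_sympForm, form_mul, h, smul_mulVec, dotProduct_smul,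
      sympBilin_apply, smul_eq_mul]

theorem J_entry (i : Fin m) : JJ (Sum.inr i) (Sum.inl i) = 1 := by simp [Matrix.J]

theorem smul_J_inj (hm : 1 ≤ m) {a b : F} (h : a • JJ = b • JJ) : a = b := by
  have := congrFun (congrFun h (Sum.inr (⟨0, hm⟩ : Fin m))) (Sum.inl ⟨0, hm⟩)
  rwa [Matrix.smul_apply, Matrix.smul_apply, J_entry, smul_eq_mul, smul_eq_mul, mul_one, mul_one] at this

theorem mem_sp_iff (A : Big) : A ∈ Matrix.symplecticGroup (Fin m) F ↔ Aᵀ * JJ * A = JJ :=
  SymplecticGroup.mem_iff'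

/-- Conjugation of the symplectic group by a similitude. -/
noncomputable def conjSp : Cfsg.GSp m F →* MulAut Spm where
  toFun g :=
    { toFun := fun s => ⟨((g : GLB) : Big) * (s : Big) * (((g : GLB)⁻¹ : GLB) : Big), by
        obtain ⟨c, hc⟩ := (gsp_iff (g : GLB)).1 g.2
        obtain ⟨d, hd⟩ := (gsp_iff ((g : GLB)⁻¹)).1 (inv_mem g.2)
        have hs := (mem_sp_iff (s : Big)).1 s.2
        rw [mem_sp_iff]
        generalize hG : ((g : GLB) : Big) = G at hc ⊢
        generalize hH : (((g : GLB)⁻¹ : GLB) : Big) = H at hd ⊢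
        have hGH : G * H = 1 := by rw [← hG, ← hH, Units.mul_inv]
        have hcd : JJ = ((d : F) * (c : F)) • JJ := by
          calc JJ = (G * H)ᵀ * JJ * (G * H) := by rw [hGH]; simp
            _ = Hᵀ * (Gᵀ * JJ * G) * H := by rw [transpose_mul]; simp only [Matrix.mul_assoc]
            _ = _ := by rw [hc, Matrix.mul_smul, Matrix.smul_mul, hd, smul_smul, mul_comm]
        calc (G * (s : Big) * H)ᵀ * JJ * (G * (s : Big) * H)
            = Hᵀ * ((s : Big)ᵀ * (Gᵀ * JJ * G) * (s : Big)) * H := by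
              simp only [transpose_mul, Matrix.mul_assoc]
          _ = JJ := by
              simp only [hc, Matrix.mul_smul, Matrix.smul_mul, hs, hd, smul_smul]
              rw [mul_comm]; exact hcd.symm⟩
      invFun := fun s => ⟨(((g : GLB)⁻¹ : GLB) : Big) * (s : Big) * ((g : GLB) : Big), by
        obtain ⟨c, hc⟩ := (gsp_iff (g : GLB)).1 g.2
        obtain ⟨d, hd⟩ := (gsp_iff ((g : GLB)⁻¹)).1 (inv_mem g.2)
        have hs := (mem_sp_iff (s : Big)).1 s.2
        rw [mem_sp_iff]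
        generalize hG : ((g : GLB) : Big) = G at hc ⊢
        generalize hH : (((g : GLB)⁻¹ : GLB) : Big) = H at hd ⊢
        have hHG : H * G = 1 := by rw [← hG, ← hH, Units.inv_mul]
        have hcd : JJ = ((c : F) * (d : F)) • JJ := by
          calc JJ = (H * G)ᵀ * JJ * (H * G) := by rw [hHG]; simp
            _ = Gᵀ * (Hᵀ * JJ * H) * G := by rw [transpose_mul]; simp only [Matrix.mul_assoc]
            _ = _ := by rw [hd, Matrix.mul_smul, Matrix.smul_mul, hc, smul_smul, mul_comm]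
        calc (H * (s : Big) * G)ᵀ * JJ * (H * (s : Big) * G)
            = Gᵀ * ((s : Big)ᵀ * (Hᵀ * JJ * H) * (s : Big)) * G := by
              simp only [transpose_mul, Matrix.mul_assoc]
          _ = JJ := by
              simp only [hd, Matrix.mul_smul, Matrix.smul_mul, hs, hc, smul_smul]
              rw [mul_comm]; exact hcd.symm⟩
      left_inv := fun s => Subtype.ext (by simp [mul_assoc])
      right_inv := fun s => Subtype.ext (by simp [mul_assoc])
      map_mul' := fun s t => Subtype.ext (by simp [mul_assoc]) }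
  map_one' := MulEquiv.ext fun s => Subtype.ext (by simp)
  map_mul' g h := MulEquiv.ext fun s => Subtype.ext (by simp [mul_assoc])

theorem coe_conjSp (g : Cfsg.GSp m F) (s : Spm) :
    ((conjSp g s : Spm) : Big) = ((g : GLB) : Big) * (s : Big) * (((g : GLB)⁻¹ : GLB) : Big) := rfl

theorem map_J (σ : F ≃+* F) : (JJ).map σ = JJ := by
  ext i j
  rcases i with i | i <;> rcases j with j | j <;> by_cases h : i = j <;> simp [Matrix.J, h]

theorem map_mem_sp (σ : F ≃+* F) (s : Spm) : (s : Big).map σ ∈ Matrix.symplecticGroup (Fin m) F := by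
  rw [mem_sp_iff, ← map_J σ, ← transpose_map, ← Matrix.map_mul, ← Matrix.map_mul, (mem_sp_iff _).1 s.2]

/-- Entrywise field automorphisms of the symplectic group. -/
noncomputable def fieldSp : (F ≃+* F) →* MulAut Spm where
  toFun σ :=
    { toFun := fun s => ⟨(s : Big).map σ, map_mem_sp σ s⟩
      invFun := fun s => ⟨(s : Big).map σ.symm, map_mem_sp σ.symm s⟩
      left_inv := fun s => Subtype.ext (by ext i j; exact σ.symm_apply_apply _)
      right_inv := fun s => Subtype.ext (by ext i j; exact σ.apply_symm_apply _)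
      map_mul' := fun s t => Subtype.ext (by
        show ((s : Big) * (t : Big)).map σ = (s : Big).map σ * (t : Big).map σ
        exact Matrix.map_mul) }
  map_one' := MulEquiv.ext fun s => Subtype.ext (by ext i j; rfl)
  map_mul' _ _ := MulEquiv.ext fun s => Subtype.ext (by ext i j; rfl)

theorem coe_fieldSp (σ : F ≃+* F) (s : Spm) : ((fieldSp σ s : Spm) : Big) = (s : Big).map σ := rfl

/-- Passing to the central quotient. -/
noncomputable def liftP : MulAut Spm →* MulAut Pm where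
  toFun a := QuotientGroup.congr _ _ a (Subgroup.characteristic_iff_map_eq.1 inferInstance a)
  map_one' := MulEquiv.ext fun x => QuotientGroup.induction_on x fun _ => rfl
  map_mul' a b := MulEquiv.ext fun x => QuotientGroup.induction_on x fun _ => rfl

/-- Conjugation by similitudes on the quotient. -/
noncomputable def conjS : Cfsg.GSp m F →* MulAut Pm := liftP.comp conjSp

/-- Field automorphisms on the quotient. -/
noncomputable def fieldS : (F ≃+* F) →* MulAut Pm := liftP.comp fieldSp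

theorem conjS_apply (g : Cfsg.GSp m F) (s : Spm) : conjS g (π' s) = π' (conjSp g s) := rfl

theorem fieldS_apply (σ : F ≃+* F) (s : Spm) : fieldS σ (π' s) = π' (fieldSp σ s) := rfl

theorem induced_iff {g : Cfsg.GSp m F} {σ : F ≃+* F} {β : MulAut Pm} :
    Cfsg.IsInducedBySemilinearPSp (g : GLB) σ β ↔ β = conjS g * fieldS σ := by
  constructor
  · intro h
    refine MulEquiv.ext fun x => QuotientGroup.induction_on x fun s => ?_
    exact h s (conjSp g (fieldSp σ s)) (by rw [coe_conjSp, coe_fieldSp])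
  · rintro rfl s s' h
    exact congrArg π' (Subtype.ext (by rw [coe_conjSp, coe_fieldSp, h]) : conjSp g (fieldSp σ s) = s')

theorem inner_iff {g : Cfsg.GSp m F} {β : MulAut Pm} :
    Cfsg.IsInducedBySemilinearPSp (g : GLB) (RingEquiv.refl F) β ↔ β = conjS g := by
  rw [induced_iff]
  have : fieldS (RingEquiv.refl F) = (1 : MulAut Pm) := map_one fieldS
  rw [this, mul_one]

theorem inndiag_eq : Cfsg.inndiagPSp m F = (conjS : Cfsg.GSp m F →* MulAut Pm).range := by
  refine le_antisymm ((Subgroup.closure_le _).2 ?_) ?_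
  · rintro β ⟨g, hg, hβ⟩
    exact ⟨⟨g, hg⟩, ((inner_iff (g := ⟨g, hg⟩)).1 hβ).symm⟩
  · rintro _ ⟨g, rfl⟩
    exact Subgroup.subset_closure ⟨(g : GLB), g.2, inner_iff.2 rfl⟩

theorem eq_fieldS {σ : F ≃+* F} {φ : MulAut Pm} (h : Cfsg.IsStdFieldAutPSp σ φ) : φ = fieldS σ :=
  MulEquiv.ext fun x => QuotientGroup.induction_on x fun s => h s (fieldSp σ s) (coe_fieldSp σ s)

/-- The entrywise field automorphism of the similitude group. -/
noncomputable def gspMap (σ : F ≃+* F) (g : Cfsg.GSp m F) : Cfsg.GSp m F :=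
  ⟨Matrix.GeneralLinearGroup.map σ.toRingHom (g : GLB), by
    obtain ⟨c, hc⟩ := (gsp_iff (g : GLB)).1 g.2
    refine (gsp_iff _).2 ⟨Units.map σ.toRingHom.toMonoidHom c, ?_⟩
    show ((((g : GLB) : Big)).map σ)ᵀ * JJ * (((g : GLB) : Big)).map σ = σ (c : F) • JJ
    conv_lhs => rw [← map_J σ, ← transpose_map, ← Matrix.map_mul, ← Matrix.map_mul, hc]
    ext i j
    rw [Matrix.map_apply, Matrix.smul_apply, Matrix.smul_apply, smul_eq_mul, smul_eq_mul, map_mul]
    exact congrArg _ (congrFun (congrFun (map_J σ) i) j)⟩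

theorem coe_gspMap (σ : F ≃+* F) (g : Cfsg.GSp m F) :
    (((gspMap σ g : Cfsg.GSp m F) : GLB) : Big) = (((g : GLB) : Big)).map σ := rfl

theorem fieldS_mul_conjS (σ : F ≃+* F) (g : Cfsg.GSp m F) :
    (fieldS σ : MulAut Pm) * conjS g = conjS (gspMap σ g) * fieldS σ := by
  refine MulEquiv.ext fun x => QuotientGroup.induction_on x fun s => congrArg π' (Subtype.ext ?_)
  show ((fieldSp σ (conjSp g s) : Spm) : Big) = ((conjSp (gspMap σ g) (fieldSp σ s) : Spm) : Big)
  rw [coe_fieldSp, coe_conjSp, coe_conjSp, coe_fieldSp, Matrix.map_mul, Matrix.map_mul, coe_gspMap]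
  rfl

/-- A symplectic matrix as a similitude. -/
noncomputable def spToGSp : Spm →* Cfsg.GSp m F where
  toFun s := ⟨⟨(s : Big), ((s⁻¹ : Spm) : Big), congrArg Subtype.val (mul_inv_cancel s),
    congrArg Subtype.val (inv_mul_cancel s)⟩, (gsp_iff _).2 ⟨1, by
      rw [Units.val_one, one_smul]; exact (mem_sp_iff _).1 s.2⟩⟩
  map_one' := Subtype.ext (Units.ext rfl)
  map_mul' _ _ := Subtype.ext (Units.ext rfl)

theorem conjS_spToGSp (s : Spm) : conjS (spToGSp s) = MulAut.conj (π' s) := by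
  refine MulEquiv.ext fun x => QuotientGroup.induction_on x fun t => ?_
  show π' (conjSp (spToGSp s) t) = π' s * π' t * (π' s)⁻¹
  rw [← map_inv, ← map_mul, ← map_mul]
  rfl

theorem inn_iff (g : MulAut Pm) : g ∈ Cfsg.Inn Pm ↔ ∃ s : Spm, g = conjS (spToGSp s) := by
  constructor
  · rintro ⟨y, rfl⟩
    obtain ⟨s, rfl⟩ := QuotientGroup.mk_surjective y
    exact ⟨s, (conjS_spToGSp s).symm⟩
  · rintro ⟨s, rfl⟩
    exact ⟨π' s, (conjS_spToGSp s).symm⟩

/-- The symplectic transvection. -/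
noncomputable def tv (v : Vec) (a : F) : Spm :=
  (sympEquiv m F).symm (sympT (sympBilin_isAlt m F) v a)

theorem tv_mulVec (v : Vec) (a : F) (x : Vec) : ((tv v a : Spm) : Big) *ᵥ x = x + (a * Bf x v) • v := by
  rw [tv, sympEquiv_symm_mulVec, sympT_apply]

theorem mat_ext {A B : Big} (h : ∀ x : Vec, A *ᵥ x = B *ᵥ x) : A = B :=
  Matrix.toLin'.injective (LinearMap.ext fun x => by simpa [Matrix.toLin'_apply] using h x)

theorem sp_ext {s t : Spm} (h : ∀ x : Vec, (s : Big) *ᵥ x = (t : Big) *ᵥ x) : s = t := Subtype.ext (mat_ext h)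

theorem sp_inv_mulVec (g : Spm) (x : Vec) : ((g⁻¹ : Spm) : Big) *ᵥ ((g : Big) *ᵥ x) = x := by
  rw [mulVec_mulVec, show ((g⁻¹ : Spm) : Big) * (g : Big) = 1 from congrArg Subtype.val (inv_mul_cancel g),
    one_mulVec]

theorem sp_form (g : Spm) (u v : Vec) : Bf ((g : Big) *ᵥ u) ((g : Big) *ᵥ v) = Bf u v := by
  rw [form_mul, (mem_sp_iff _).1 g.2, sympBilin_apply]

theorem tv_conj (g : Spm) (v : Vec) (a : F) : g * tv v a * g⁻¹ = tv ((g : Big) *ᵥ v) a := by
  rw [mul_inv_eq_iff_eq_mul]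
  refine sp_ext fun x => ?_
  show ((g : Big) * _) *ᵥ x = (_ * (g : Big)) *ᵥ x
  rw [← mulVec_mulVec, ← mulVec_mulVec, tv_mulVec, tv_mulVec, mulVec_add, mulVec_smul, sp_form]

theorem tv_smul (v : Vec) (a c : F) : tv (c • v) a = tv v (a * c ^ 2) := by
  refine sp_ext fun x => ?_
  rw [tv_mulVec, tv_mulVec, map_smul, smul_eq_mul, smul_smul]
  congr 2; ring

theorem tv_add (v : Vec) (a b : F) : tv v (a + b) = tv v a * tv v b := by
  refine sp_ext fun x => ?_
  show _ = (_ * _) *ᵥ x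
  rw [← mulVec_mulVec, tv_mulVec, tv_mulVec, tv_mulVec, map_add, map_smul, LinearMap.add_apply, LinearMap.smul_apply,
    sympBilin_isAlt m F v]
  simp only [smul_zero, add_zero, mul_add, add_mul, add_smul]
  abel

theorem tv_zero (v : Vec) : tv v (0 : F) = 1 := sp_ext fun x => by simp [tv_mulVec]

/-- The transvection group in the central quotient. -/
noncomputable def tvHom (v : Vec) : Multiplicative F →* Pm :=
  MonoidHom.comp π' (MonoidHom.mk' (fun a : Multiplicative F => tv v a.toAdd) fun a b => tv_add v _ _)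

/-- The transvection group in the central quotient. -/
noncomputable def R (v : Vec) : Subgroup Pm := (tvHom v).range

theorem mem_R {v : Vec} {x : Pm} : x ∈ R v ↔ ∃ a : F, π' (tv v a) = x :=
  ⟨fun ⟨a, ha⟩ => ⟨a.toAdd, ha⟩, fun ⟨a, ha⟩ => ⟨Multiplicative.ofAdd a, ha⟩⟩

theorem R_smul (v : Vec) {c : F} (hc : c ≠ 0) : R (c • v) = R v := by
  ext x
  rw [mem_R, mem_R]
  constructor
  · rintro ⟨a, rfl⟩; exact ⟨_, congrArg π' (tv_smul v a c).symm⟩
  · rintro ⟨a, rfl⟩
    exact ⟨a / c ^ 2, congrArg π' (by rw [tv_smul, div_mul_cancel₀ _ (pow_ne_zero 2 hc)])⟩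

theorem R_map_conj (g : Spm) (v : Vec) : (R v).map (MulAut.conj (π' g)).toMonoidHom = R ((g : Big) *ᵥ v) := by
  ext x
  rw [Subgroup.mem_map, mem_R]
  constructor
  · rintro ⟨y, hy, rfl⟩
    obtain ⟨a, rfl⟩ := mem_R.1 hy
    refine ⟨a, ?_⟩
    show _ = π' g * π' (tv v a) * (π' g)⁻¹
    rw [← map_inv, ← map_mul, ← map_mul, tv_conj]
  · rintro ⟨a, rfl⟩
    refine ⟨_, mem_R.2 ⟨a, rfl⟩, ?_⟩
    show π' g * π' (tv v a) * (π' g)⁻¹ = _
    rw [← map_inv, ← map_mul, ← map_mul, tv_conj]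

theorem center_scalar [Finite F] (hm : 1 ≤ m) {z : Spm} (hz : z ∈ Subgroup.center Spm) :
    ∃ c : F, c ≠ 0 ∧ ∀ x : Vec, (z : Big) *ᵥ x = c • x := by
  have hpres : ∀ v : Vec, v ≠ 0 → ∃ c : F, (z : Big) *ᵥ v = c • v := by
    intro v hv
    obtain ⟨u, hu⟩ := exists_hyperbolic_partner (sympBilin_nondegenerate m F) hv
    have h1 := congrArg (fun s : Spm => (s : Big) *ᵥ u) (Subgroup.mem_center_iff.1 hz (tv v 1))
    simp only [Submonoid.coe_mul, ← mulVec_mulVec, tv_mulVec, mulVec_add, mulVec_smul, one_mul] at h1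
    have hne : Bf u v ≠ 0 := by
      rw [← LinearMap.IsAlt.neg (sympBilin_isAlt m F) v u, hu]
      exact neg_ne_zero.2 one_ne_zero
    refine ⟨(Bf u v)⁻¹ * Bf ((z : Big) *ᵥ u) v, ?_⟩
    rw [add_right_inj] at h1
    rw [mul_smul, h1, smul_smul, inv_mul_cancel₀ hne, one_smul]
  let i0 : Fin m ⊕ Fin m := Sum.inl ⟨0, hm⟩
  obtain ⟨c, hc⟩ := hpres (Pi.single i0 1) (Pi.single_ne_zero_iff.2 one_ne_zero)
  have hall : ∀ i, (z : Big) *ᵥ Pi.single i 1 = c • Pi.single i 1 := by
    intro i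
    rcases eq_or_ne i i0 with rfl | hi
    · exact hc
    obtain ⟨d, hd⟩ := hpres (Pi.single i 1) (Pi.single_ne_zero_iff.2 one_ne_zero)
    obtain ⟨e, he⟩ := hpres (Pi.single i0 1 + Pi.single i 1) (fun h0 => by
      simpa [hi.symm] using congrFun h0 i0)
    rw [mulVec_add, hc, hd] at he
    have e1 := congrFun he i0
    have e2 := congrFun he i
    simp [hi, hi.symm] at e1 e2
    rw [hd, e2, ← e1]
  have hmat : (z : Big) = c • 1 := mat_ext fun x => by
    have hx : x = ∑ i, x i • (Pi.single i 1 : Vec) := by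
      funext k; simp [Finset.sum_apply, Pi.single_apply]
    rw [hx, mulVec_sum, mulVec_sum]
    exact Finset.sum_congr rfl fun i _ => by
      rw [mulVec_smul, mulVec_smul, hall, smul_mulVec, one_mulVec]
  refine ⟨c, ?_, fun x => by rw [hmat, smul_mulVec, one_mulVec]⟩
  rintro rfl
  have h1 := congrArg (fun s : Spm => (s : Big)) (inv_mul_cancel z)
  rw [zero_smul] at hmat
  simp only [Submonoid.coe_mul, hmat, mul_zero, OneMemClass.coe_one] at h1
  exact one_ne_zero (α := F) (by simpa using (congrFun (congrFun h1 i0) i0).symm)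

/-- An element central modulo the centre that fixes a vector is trivial. -/
theorem eq_of_π [Finite F] (hm : 1 ≤ m) {s t : Spm} (h : π' s = π' t) {x : Vec} (hx : x ≠ 0)
    (hs : (s : Big) *ᵥ x = x) (ht : (t : Big) *ᵥ x = x) : s = t := by
  obtain ⟨z, hz, rfl⟩ := (QuotientGroup.mk'_eq_mk' _).1 h
  obtain ⟨c, -, hc⟩ := center_scalar hm hz
  rw [Submonoid.coe_mul, ← mulVec_mulVec, hc, mulVec_smul, hs] at ht
  have hc1 : c = 1 := by
    by_contra h1
    exact hx ((smul_eq_zero.1 (show (c - 1) • x = 0 by rw [sub_smul, one_smul, ht, sub_self])).resolve_left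
      (sub_ne_zero.2 h1))
  rw [show z = 1 from sp_ext fun y => by rw [hc, hc1, one_smul, OneMemClass.coe_one, one_mulVec], mul_one]

theorem exists_common_perp [Finite F] (hm : 2 ≤ m) (v w : Vec) : ∃ x : Vec, x ≠ 0 ∧ Bf x v = 0 ∧ Bf x w = 0 := by
  let L : (Fin m ⊕ Fin m → F) →ₗ[F] (Fin 2 → F) := LinearMap.pi ![LinearMap.flip (Bf) v, LinearMap.flip (Bf) w]
  have hk : LinearMap.ker L ≠ ⊥ := by
    intro h
    have := LinearMap.finrank_le_finrank_of_injective (LinearMap.ker_eq_bot.1 h)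
    simp at this
    omega
  obtain ⟨x, hx, hx0⟩ := Submodule.exists_mem_ne_zero_of_ne_bot hk
  exact ⟨x, hx0, congrFun hx 0, congrFun hx 1⟩

theorem eq_of_R [Finite F] (hm : 2 ≤ m) {v w : Vec} (hv : v ≠ 0) (h : R v ≤ R w) :
    v ∈ Submodule.span F {w} := by
  obtain ⟨a, ha⟩ := mem_R.1 (h (mem_R.2 ⟨1, rfl⟩))
  obtain ⟨x, hx, hxv, hxw⟩ := exists_common_perp hm v w
  have e := eq_of_π (by omega) ha hx (by rw [tv_mulVec, hxw, mul_zero, zero_smul, add_zero])
    (by rw [tv_mulVec, hxv, mul_zero, zero_smul, add_zero])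
  obtain ⟨u, hu⟩ := exists_hyperbolic_partner (sympBilin_nondegenerate m F) hv
  have hne : Bf u v ≠ 0 := by
    rw [← LinearMap.IsAlt.neg (sympBilin_isAlt m F) v u, hu]
    exact neg_ne_zero.2 one_ne_zero
  have h1 := congrArg (fun s : Spm => (s : Big) *ᵥ u) e
  simp only [tv_mulVec, one_mul, add_right_inj] at h1
  exact Submodule.mem_span_singleton.2 ⟨(Bf u v)⁻¹ * (a * Bf u w), by
    rw [mul_smul, h1, smul_smul, inv_mul_cancel₀ hne, one_smul]⟩

theorem R_commute_iff [Finite F] (hm : 2 ≤ m) {v w : Vec} (hv : v ≠ 0) :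
    (∀ x ∈ R v, ∀ y ∈ R w, Commute x y) ↔ Bf v w = 0 := by
  constructor
  · intro h
    have e : R ((tv w 1 : Spm) *ᵥ v) ≤ R v := by
      rw [← R_map_conj]
      rintro _ ⟨x, hx, rfl⟩
      have hc : Commute x (π' (tv w 1)) := h x hx _ (mem_R.2 ⟨1, rfl⟩)
      show π' (tv w 1) * x * (π' (tv w 1))⁻¹ ∈ R v
      rw [← hc.eq, mul_inv_cancel_right]
      exact hx
    have hne : ((tv w 1 : Spm) : Big) *ᵥ v ≠ 0 := fun h0 => hv (by
      rw [← sp_inv_mulVec (tv w 1) v, h0, mulVec_zero])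
    obtain ⟨c, hc⟩ := Submodule.mem_span_singleton.1 (eq_of_R hm hne e)
    rw [tv_mulVec, one_mul] at hc
    by_contra h0
    refine h0 ?_
    have hw : w = ((c - 1) / Bf v w) • v := by
      rw [div_eq_inv_mul, mul_smul, sub_smul, one_smul, hc, add_sub_cancel_left, smul_smul, inv_mul_cancel₀ h0,
        one_smul]
    rw [hw, map_smul, sympBilin_isAlt m F v, smul_zero]
  · intro h x hx y hy
    obtain ⟨a, rfl⟩ := mem_R.1 hx
    obtain ⟨b, rfl⟩ := mem_R.1 hy
    refine Commute.map ?_ π'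
    have h' : Bf w v = 0 := by rw [← LinearMap.IsAlt.neg (sympBilin_isAlt m F) v w, h, neg_zero]
    show tv v a * tv w b = tv w b * tv v a
    rw [← mul_inv_eq_iff_eq_mul, tv_conj, tv_mulVec, h', mul_zero, zero_smul, add_zero]

theorem transitive [Finite F] {v w : Vec} (hv : v ≠ 0) (hw : w ≠ 0) : ∃ g : Spm, (g : Big) *ᵥ v = w := by
  obtain ⟨g, hg⟩ := sympIsom_transitive (sympBilin_isAlt m F) (sympBilin_nondegenerate m F) hv hw
  exact ⟨(sympEquiv m F).symm g, by rw [sympEquiv_symm_mulVec]; exact hg⟩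

end Cfsg.Lib.Sympl
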