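import Cfsg.Agent.Known.Sympl.Field

/-!
Centralisers and class splitting of field automorphisms of prime order of `PSp (2m, q)`.
-/

set_option autoImplicit false
set_option linter.unusedSectionVars false

namespace Cfsg.Lib.Sympl

open Matrix Cfsg.Lib.Classical
open Cfsg.Lib.Known.FieldLight (exists_fixed_hom index_pow_sup nonempty_equiv order_dvd)

/-- The number of classes under the kernel of a homomorphism onto an abelian group is an index. -/
theorem split_count_gen {Γ X A : Type*} [Group Γ] [Group X] [CommGroup A] (ψ : Γ →* X) (d : Γ →* A)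
    (hd : Function.Surjective d) (x : X) :
    Cfsg.splitClassCount ψ.range (d.ker.map ψ) x = (((Subgroup.centralizer {x}).comap ψ).map d).index := by
  set C := (Subgroup.centralizer {x}).comap ψ with hC
  set D := C.map d with hD
  rw [← Subgroup.index_comap_of_surjective D (f := d) hd]
  set rel := fun y z : {y : X // Cfsg.IsConjUnder ψ.range x y} => Cfsg.IsConjUnder (d.ker.map ψ) y.1 z.1
  have hequiv : Equivalence rel := by
    refine ⟨fun y => ⟨1, one_mem _, by group⟩, ?_, ?_⟩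
    · rintro y z ⟨h, hh, e⟩
      exact ⟨h⁻¹, inv_mem hh, by rw [e]; group⟩
    · rintro y z w ⟨h, hh, e⟩ ⟨k, hk, e'⟩
      exact ⟨k * h, mul_mem hk hh, by rw [e', e]; group⟩
  have hmem : ∀ h : Γ, Cfsg.IsConjUnder ψ.range x (ψ h * x * (ψ h)⁻¹) := fun h => ⟨ψ h, ⟨h, rfl⟩, rfl⟩
  have key : ∀ h k : Γ, rel ⟨_, hmem h⟩ ⟨_, hmem k⟩ ↔ h⁻¹ * k ∈ D.comap d := by
    intro h k
    constructor
    · rintro ⟨t, ⟨s, hs, rfl⟩, e⟩
      change ψ k * x * (ψ k)⁻¹ = _ at e
      have hc : k⁻¹ * s * h ∈ C := by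
        show ψ _ ∈ Subgroup.centralizer {x}
        rw [Subgroup.mem_centralizer_singleton_iff, map_mul, map_mul, map_inv]
        calc (ψ k)⁻¹ * ψ s * ψ h * x
            = (ψ k)⁻¹ * (ψ s * (ψ h * x * (ψ h)⁻¹) * (ψ s)⁻¹) * ψ s * ψ h := by group
          _ = _ := by rw [← e]; group
      refine ⟨_, inv_mem hc, ?_⟩
      have hs1 : d s = 1 := hs
      simp only [map_mul, map_inv, hs1, mul_one]
      rw [_root_.mul_inv_rev, inv_inv]
    · rintro ⟨c, hc, e⟩
      refine ⟨ψ (k * c⁻¹ * h⁻¹), ⟨_, ?_, rfl⟩, ?_⟩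
      · show d _ = 1
        rw [map_mul, map_mul, map_inv, map_inv, e, map_mul, map_inv, _root_.mul_inv_rev, inv_inv, ← mul_assoc,
          mul_inv_cancel, one_mul, mul_inv_cancel]
      · have hcx : ψ c⁻¹ * x = x * ψ c⁻¹ := Subgroup.mem_centralizer_singleton_iff.1 (inv_mem hc)
        show ψ k * x * (ψ k)⁻¹ = _
        rw [map_mul, map_mul, map_inv, map_inv]
        rw [map_inv] at hcx
        calc ψ k * x * (ψ k)⁻¹ = ψ k * (x * (ψ c)⁻¹) * ψ c * (ψ k)⁻¹ := by group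
          _ = _ := by rw [← hcx]; group
  rw [Cfsg.splitClassCount, Subgroup.index_eq_card]
  refine (Nat.card_congr (Equiv.ofBijective (Quotient.lift (s := QuotientGroup.leftRel (D.comap d))
    (fun h => Quot.mk rel ⟨_, hmem h⟩) ?_) ⟨?_, ?_⟩)).symm
  · intro h k hhk
    exact Quot.sound ((key h k).2 (QuotientGroup.leftRel_apply.1 hhk))
  · intro q q'
    induction q using Quotient.ind with
    | _ h =>
      induction q' using Quotient.ind with
      | _ k =>
        intro e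
        exact Quotient.sound (QuotientGroup.leftRel_apply.2
          ((key h k).1 ((hequiv.eqvGen_iff).1 (Quot.eqvGen_exact e))))
  · intro q
    induction q using Quot.ind with
    | _ y =>
      obtain ⟨y, t, ⟨h, rfl⟩, rfl⟩ := y
      exact ⟨Quotient.mk _ h, rfl⟩

section Transfer

variable {X : Type*} [Group X] (H K : Subgroup X) (α x : X)

theorem conjUnder_conj {H : Subgroup X} (hH : ∀ h ∈ H, α * h * α⁻¹ ∈ H) {y z : X} (e : Cfsg.IsConjUnder H y z) :
    Cfsg.IsConjUnder H (α * y * α⁻¹) (α * z * α⁻¹) := by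
  obtain ⟨h, hh, rfl⟩ := e
  exact ⟨α * h * α⁻¹, hH h hh, by group⟩

theorem splitClassCount_conj (hH : ∀ a, ∀ h ∈ H, a * h * a⁻¹ ∈ H) (hK : ∀ a, ∀ h ∈ K, a * h * a⁻¹ ∈ K) :
    Cfsg.splitClassCount H K (α * x * α⁻¹) = Cfsg.splitClassCount H K x := by
  have hcancel : ∀ a y : X, a⁻¹ * (a * y * a⁻¹) * a⁻¹⁻¹ = y := fun a y => by group
  let e : {y // Cfsg.IsConjUnder H x y} ≃ {y // Cfsg.IsConjUnder H (α * x * α⁻¹) y} :=
    { toFun := fun y => ⟨α * y.1 * α⁻¹, conjUnder_conj α (hH α) y.2⟩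
      invFun := fun y => ⟨α⁻¹ * y.1 * α⁻¹⁻¹, by
        have := conjUnder_conj α⁻¹ (hH α⁻¹) y.2
        rwa [hcancel] at this⟩
      left_inv := fun y => Subtype.ext (hcancel α y.1)
      right_inv := fun y => Subtype.ext (by group) }
  refine (Nat.card_congr (Quot.congr e fun y z => ⟨fun h => conjUnder_conj α (hK α) h, fun h => ?_⟩)).symm
  have := conjUnder_conj α⁻¹ (hK α⁻¹) h
  simpa only [e, Equiv.coe_fn_mk, hcancel] using this

theorem nonempty_inf_centralizer (hH : ∀ a, ∀ h ∈ H, a * h * a⁻¹ ∈ H) :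
    Nonempty (↥(H ⊓ Subgroup.centralizer {x}) ≃* ↥(H ⊓ Subgroup.centralizer {α * x * α⁻¹})) := by
  have key : (H ⊓ Subgroup.centralizer {x}).map (MulAut.conj α).toMonoidHom =
      H ⊓ Subgroup.centralizer {α * x * α⁻¹} := by
    ext y
    constructor
    · rintro ⟨h, ⟨hh, hc⟩, rfl⟩
      refine ⟨hH α h hh, Subgroup.mem_centralizer_singleton_iff.2 ?_⟩
      show α * h * α⁻¹ * (α * x * α⁻¹) = α * x * α⁻¹ * (α * h * α⁻¹)
      calc α * h * α⁻¹ * (α * x * α⁻¹) = α * (h * x) * α⁻¹ := by group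
        _ = _ := by rw [Subgroup.mem_centralizer_singleton_iff.1 hc]; group
    · rintro ⟨hy, hc⟩
      refine ⟨α⁻¹ * y * α⁻¹⁻¹, ⟨hH _ y hy, Subgroup.mem_centralizer_singleton_iff.2 ?_⟩, ?_⟩
      · calc α⁻¹ * y * α⁻¹⁻¹ * x = α⁻¹ * (y * (α * x * α⁻¹)) * α := by group
          _ = _ := by rw [Subgroup.mem_centralizer_singleton_iff.1 hc]; group
      · show α * (α⁻¹ * y * α⁻¹⁻¹) * α⁻¹ = y
        group
  exact ⟨((H ⊓ Subgroup.centralizer {x}).equivMapOfInjective _ (MulAut.conj α).injective).trans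
    (MulEquiv.subgroupCongr key)⟩

end Transfer

variable {F : Type*} [Field F] [Fintype F] {m : ℕ}

local notation "Big" => Matrix (Fin m ⊕ Fin m) (Fin m ⊕ Fin m) F
local notation "GLB" => GL (Fin m ⊕ Fin m) F
local notation "Pm" => Cfsg.PSp m F
local notation "GS" => Cfsg.GSp m F

theorem inn_eq_map (hm : 1 ≤ m) : Cfsg.Inn Pm = (muHom (F := F) (m := m) hm).ker.map conjS := by
  ext y
  rw [inn_iff]
  constructor
  · rintro ⟨s, rfl⟩
    exact ⟨_, mu_spToGSp hm s, rfl⟩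
  · rintro ⟨g, hg, rfl⟩
    obtain ⟨s, rfl⟩ := exists_sp_of_mu hm (g := g) hg
    exact ⟨s, rfl⟩

theorem gcd_geom {q r : ℕ} (hq : 2 ≤ q) (hr : 1 ≤ r) :
    Nat.gcd 2 ((q ^ r - 1) / (q - 1)) = Nat.gcd (Nat.gcd 2 (q ^ r - 1)) r := by
  rw [← Nat.geomSum_eq hq r, Nat.gcd_rec 2 (∑ k ∈ Finset.range r, q ^ k), Nat.gcd_rec 2 (q ^ r - 1),
    Finset.sum_nat_mod]
  rcases Nat.mod_two_eq_zero_or_one q with h | h
  · have hs : (∑ k ∈ Finset.range r, q ^ k % 2) = 1 := by
      rw [Finset.sum_eq_single 0]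
      · simp
      · intro b _ hb; rw [Nat.pow_mod, h, zero_pow hb, Nat.zero_mod]
      · intro h0; exact absurd (Finset.mem_range.2 hr) h0
    have hpm : (q ^ r - 1) % 2 = 1 := by
      have : q ^ r % 2 = 0 := by rw [Nat.pow_mod, h, zero_pow (by omega), Nat.zero_mod]
      have : 0 < q ^ r := pow_pos (by omega) r
      omega
    rw [hs, hpm]; simp
  · have hs : (∑ k ∈ Finset.range r, q ^ k % 2) = r := by
      rw [Finset.sum_congr rfl fun b _ => (by rw [Nat.pow_mod, h, one_pow, Nat.one_mod] : q ^ b % 2 = 1)]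
      simp
    have hpm : (q ^ r - 1) % 2 = 0 := by
      have : q ^ r % 2 = 1 := by rw [Nat.pow_mod, h, one_pow, Nat.one_mod]
      omega
    rw [hs, hpm, Nat.gcd_zero_left, ← Nat.gcd_rec 2 r]

/-- The data of a field automorphism of prime order. -/
theorem field_data (hm : 2 ≤ m) {p f r : ℕ} [Fact p.Prime] (hF : Fintype.card F = p ^ f) (hr : r.Prime)
    {x : MulAut Pm} (hx : Cfsg.IsFieldAutClassPSp x) (hxr : orderOf x = r) (F₀ : Type*) [Field F₀] [Fintype F₀]
    (hF₀ : Fintype.card F₀ = p ^ (f / r)) :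
    r ∣ f ∧ Nonempty (↥(Cfsg.inndiagPSp m F ⊓ Subgroup.centralizer {x}) ≃* Cfsg.PGSp m F₀) ∧
      Cfsg.splitClassCount (Cfsg.inndiagPSp m F) (Cfsg.Inn Pm) x = Nat.gcd (Nat.gcd 2 (p ^ f - 1)) r := by
  classical
  have hm1 : 1 ≤ m := by omega
  obtain ⟨α, σ, hσ, hstd⟩ := hx
  have hφ := eq_fieldS hstd
  have hord : orderOf σ = r := by
    have : Fact r.Prime := ⟨hr⟩
    refine orderOf_eq_prime (conjS_fieldS_eq_one hm (g := 1) ?_).2 hσ
    rw [map_one, one_mul, map_pow, ← hφ, conj_pow, ← hxr, pow_orderOf_eq_one, mul_one, mul_inv_cancel]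
  have hrf : r ∣ f := hord ▸ order_dvd hF σ
  obtain ⟨ι, hι⟩ := exists_fixed_hom hF hord F₀ hF₀
  have hmap : ∀ b : Cfsg.GSp m F₀, ((((b : GL (Fin m ⊕ Fin m) F₀) : Matrix _ _ F₀)).map ι)ᵀ *
      Matrix.J (Fin m) F * (((b : GL (Fin m ⊕ Fin m) F₀) : Matrix _ _ F₀)).map ι =
        ι (mu b : F₀) • Matrix.J (Fin m) F := by
    intro b
    have hJ : (Matrix.J (Fin m) F₀).map ι = Matrix.J (Fin m) F := by
      ext i j
      rcases i with i | i <;> rcases j with j | j <;> by_cases hh : i = j <;> simp [Matrix.J, hh]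
    rw [← hJ, ← transpose_map, ← Matrix.map_mul, ← Matrix.map_mul, mu_spec b]
    ext i j
    simp [Matrix.map_apply, Matrix.smul_apply]
    exact congrFun (congrFun hJ i) j
  let ι' : Cfsg.GSp m F₀ →* GS :=
    ((GeneralLinearGroup.map ι).comp (Cfsg.GSp m F₀).subtype).codRestrict (Cfsg.GSp m F) fun b =>
      (gsp_iff _).2 ⟨Units.map ι.toMonoidHom (mu b), hmap b⟩
  have hι'coe : ∀ b, (((ι' b : GS) : GLB) : Big) = (((b : GL (Fin m ⊕ Fin m) F₀) : Matrix _ _ F₀)).map ι :=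
    fun b => rfl
  have hmuι : ∀ b, mu (ι' b) = Units.map ι.toMonoidHom (mu b) := fun b => mu_eq hm1 (hmap b)
  have hfix : ∀ b, gspAut σ (ι' b) = ι' b := fun b => gs_ext (Matrix.ext fun i j => (hι _).2 ⟨_, rfl⟩)
  have hdesc : ∀ b : GS, (∃ u : Fˣ, gspAut σ b = scal u * b) → ∃ (c : Fˣ) (b₀ : Cfsg.GSp m F₀), b = scal c * ι' b₀ := by
    rintro b ⟨u, hu⟩
    obtain ⟨i, j, hij⟩ : ∃ i j, ((b : GLB) : Big) i j ≠ 0 := by
      by_contra h
      push Not at h
      have h0 : ((b : GLB) : Big) = 0 := Matrix.ext h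
      have := (b : GLB).mul_inv
      rw [h0, zero_mul] at this
      exact one_ne_zero (α := F) (by
        simpa using (congrFun (congrFun this (Sum.inl ⟨0, hm1⟩)) (Sum.inl ⟨0, hm1⟩)).symm)
    let c : Fˣ := Units.mk0 _ hij
    have hent : ∀ k l, σ (((b : GLB) : Big) k l) = u * ((b : GLB) : Big) k l := fun k l => by
      have := congrFun (congrFun (congrArg (fun z : GS => ((z : GLB) : Big)) hu) k) l
      simpa [coe_gspAut, coe_glm, coe_gs_mul, coe_scal, Matrix.smul_apply] using this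
    have hfe : ∀ k l, ∃ y, ι y = (((b : GLB) : Big) i j)⁻¹ * ((b : GLB) : Big) k l := fun k l => by
      refine (hι _).1 ?_
      rw [map_mul, map_inv₀, hent, hent]
      field_simp
    choose y hy using hfe
    have hM : (Matrix.of y).map ι = (((scal c⁻¹ * b : GS) : GLB) : Big) := by
      rw [coe_gs_mul, coe_scal, Matrix.smul_mul, Matrix.one_mul]
      ext k l
      rw [Matrix.map_apply, Matrix.of_apply, hy, Matrix.smul_apply]
      simp [c]
    have hdet : (Matrix.of y).det ≠ 0 := fun h0 => by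
      have h1 := GeneralLinearGroup.det_ne_zero ((scal c⁻¹ * b : GS) : GLB)
      rw [← hM, ← RingHom.mapMatrix_apply, ← RingHom.map_det, h0, map_zero] at h1
      exact h1 rfl
    let o : Fin m := ⟨0, hm1⟩
    set y0 : F₀ := ((Matrix.of y)ᵀ * Matrix.J (Fin m) F₀ * Matrix.of y) (Sum.inr o) (Sum.inl o) with hy0
    have hprod : ((Matrix.of y)ᵀ * Matrix.J (Fin m) F₀ * Matrix.of y).map ι =
        (mu (scal c⁻¹ * b) : F) • Matrix.J (Fin m) F := by
      have hJ : (Matrix.J (Fin m) F₀).map ι = Matrix.J (Fin m) F := by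
        ext k l
        rcases k with k | k <;> rcases l with l | l <;> by_cases hh : k = l <;> simp [Matrix.J, hh]
      rw [Matrix.map_mul, Matrix.map_mul, hJ, transpose_map, hM, mu_spec]
    have hy0' : ι y0 = (mu (scal c⁻¹ * b) : F) := by
      have := congrFun (congrFun hprod (Sum.inr o)) (Sum.inl o)
      rwa [Matrix.map_apply, Matrix.smul_apply, J_entry, smul_eq_mul, mul_one] at this
    have hy0ne : y0 ≠ 0 := fun h0 => (mu (scal c⁻¹ * b)).ne_zero (by rw [← hy0', h0, map_zero])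
    have hmem : GeneralLinearGroup.mkOfDetNeZero (Matrix.of y) hdet ∈ Cfsg.GSp m F₀ := by
      refine (gsp_iff _).2 ⟨Units.mk0 y0 hy0ne, ?_⟩
      show (Matrix.of y)ᵀ * Matrix.J (Fin m) F₀ * Matrix.of y = y0 • Matrix.J (Fin m) F₀
      ext k l
      refine ι.injective ?_
      have := congrFun (congrFun hprod k) l
      rw [Matrix.map_apply] at this
      rw [this, Matrix.smul_apply, Matrix.smul_apply, smul_eq_mul, smul_eq_mul, map_mul, hy0']
      congr 1
      rcases k with k | k <;> rcases l with l | l <;> by_cases hh : k = l <;> simp [Matrix.J, hh]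
    refine ⟨c, ⟨_, hmem⟩, ?_⟩
    have e : ι' ⟨_, hmem⟩ = scal c⁻¹ * b := gs_ext hM
    rw [e, ← mul_assoc, ← scal_mul, mul_inv_cancel, scal_one, one_mul]
  have hcent : ∀ g : GS, conjS g ∈ Subgroup.centralizer {(fieldS σ : MulAut Pm)} ↔
      ∃ (c : Fˣ) (b₀ : Cfsg.GSp m F₀), g = scal c * ι' b₀ := by
    intro g
    rw [Subgroup.mem_centralizer_singleton_iff, fieldS_conjS, mul_left_inj]
    constructor
    · intro h
      obtain ⟨u, hu⟩ := (conjS_eq_one_iff hm (gspAut σ g * g⁻¹)).1 (by rw [map_mul, map_inv, ← h, mul_inv_cancel])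
      exact hdesc g ⟨u, mul_inv_eq_iff_eq_mul.1 hu⟩
    · rintro ⟨c, b₀, rfl⟩
      simp only [map_mul, hfix, gspAut_scal, conjS_scal]
  have hH : ∀ a, ∀ h ∈ Cfsg.inndiagPSp m F, a * h * a⁻¹ ∈ Cfsg.inndiagPSp m F :=
    fun a h hh => inndiag_normal' hm hh
  have hK : ∀ a, ∀ h ∈ Cfsg.Inn Pm, a * h * a⁻¹ ∈ Cfsg.Inn Pm :=
    fun a h hh => (Cfsg.innNormal Pm).conj_mem h hh a
  refine ⟨hrf, ?_, ?_⟩
  · obtain ⟨e1⟩ := nonempty_inf_centralizer (Cfsg.inndiagPSp m F) α x hH
    rw [hφ] at e1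
    suffices h : Nonempty (↥(Cfsg.inndiagPSp m F ⊓ Subgroup.centralizer {(fieldS σ : MulAut Pm)}) ≃* Cfsg.PGSp m F₀)
    · exact ⟨e1.trans h.some⟩
    refine nonempty_equiv ((conjS : GS →* MulAut Pm).comp ι') _ _ ?_ ?_
    · ext b
      rw [MonoidHom.mem_ker, MonoidHom.comp_apply, conjS_eq_one_iff hm, Subgroup.mem_subgroupOf, Geo.mem_scalars_iff]
      constructor
      · rintro ⟨u, hu⟩
        have hu' : ∀ k l, ι (((b : GL (Fin m ⊕ Fin m) F₀) : Matrix _ _ F₀) k l) = ((u : F) • (1 : Big)) k l :=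
          fun k l => by rw [← coe_scal, ← hu]; rfl
        let o : Fin m ⊕ Fin m := Sum.inl ⟨0, hm1⟩
        have hoo := hu' o o
        rw [Matrix.smul_apply, Matrix.one_apply_eq, smul_eq_mul, mul_one] at hoo
        refine ⟨Units.mk0 (((b : GL (Fin m ⊕ Fin m) F₀) : Matrix _ _ F₀) o o)
          fun h0 => u.ne_zero (by rw [← hoo, h0, map_zero]), Matrix.ext fun k l => ι.injective ?_⟩
        rw [hu', Units.val_mk0, Matrix.smul_apply, Matrix.smul_apply, smul_eq_mul, smul_eq_mul, map_mul, hoo]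
        by_cases h : k = l <;> simp [Matrix.one_apply, h]
      · rintro ⟨u, hu⟩
        refine ⟨Units.map ι.toMonoidHom u, gs_ext ?_⟩
        rw [coe_scal, hι'coe, hu]
        ext k l
        by_cases h : k = l <;> simp [Matrix.one_apply, h]
    · ext z
      rw [Subgroup.mem_inf, inndiag_eq]
      constructor
      · rintro ⟨b, rfl⟩
        exact ⟨⟨_, rfl⟩, (hcent (ι' b)).2 ⟨1, b, by rw [scal_one, one_mul]⟩⟩
      · rintro ⟨⟨g, rfl⟩, hg⟩
        obtain ⟨c, b, rfl⟩ := (hcent g).1 hg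
        refine ⟨b, ?_⟩
        rw [MonoidHom.comp_apply, map_mul, conjS_scal, one_mul]
  · rw [← splitClassCount_conj _ _ α x hH hK, hφ]
    conv_lhs => rw [inndiag_eq, inn_eq_map hm1]
    refine (split_count_gen (conjS : GS →* MulAut Pm) (muHom hm1) (fun c => mu_surjective hm1 c) _).trans ?_
    set q0 := p ^ (f / r) with hq0d
    have hq0 : 2 ≤ q0 := hF₀ ▸ Fintype.one_lt_card
    have hq : p ^ f = q0 ^ r := by rw [hq0d, ← pow_mul, Nat.div_mul_cancel hrf]
    rw [hq, ← gcd_geom hq0 hr.one_le]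
    set mm := (q0 ^ r - 1) / (q0 - 1) with hmm
    have hdvd : q0 - 1 ∣ q0 ^ r - 1 := Nat.sub_one_dvd_pow_sub_one _ r
    have hmul : mm * (q0 - 1) = q0 ^ r - 1 := Nat.div_mul_cancel hdvd
    have hcardU : Nat.card Fˣ = q0 ^ r - 1 := by rw [Nat.card_units, Nat.card_eq_fintype_card, hF, hq]
    have hrange : (Units.map ι.toMonoidHom).range = (powMonoidHom mm : Fˣ →* Fˣ).range := by
      have hker : ∀ S : Subgroup Fˣ, Nat.card S = q0 - 1 →
          S = (powMonoidHom (q0 - 1) : Fˣ →* Fˣ).ker := fun S hS =>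
        Subgroup.eq_of_le_of_card_ge (fun d hd => by
          rw [MonoidHom.mem_ker, powMonoidHom_apply, ← hS]
          exact congrArg Subtype.val (pow_card_eq_one' (x := (⟨d, hd⟩ : S))))
          (by rw [hS, IsCyclic.card_powMonoidHom_ker, hcardU, Nat.gcd_eq_right hdvd])
      have hinj : Function.Injective (Units.map ι.toMonoidHom) := Units.map_injective ι.injective
      have hm0 : 0 < mm := by
        rcases Nat.eq_zero_or_pos mm with h0 | h0
        · rw [h0, zero_mul] at hmul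
          have : 2 ≤ q0 ^ r := hq ▸ hF ▸ Fintype.one_lt_card
          omega
        · exact h0
      rw [hker (Units.map ι.toMonoidHom).range (by rw [← Nat.card_congr (MonoidHom.ofInjective hinj).toEquiv, Nat.card_units,
          Nat.card_eq_fintype_card, hF₀]),
        hker (powMonoidHom mm : Fˣ →* Fˣ).range (by rw [IsCyclic.card_powMonoidHom_range, hcardU, ← hmul, Nat.gcd_mul_right_left,
          Nat.mul_div_cancel_left _ hm0])]
    have hset : ((Subgroup.centralizer {(fieldS σ : MulAut Pm)}).comap (conjS : GS →* MulAut Pm)).map (muHom hm1) =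
        (powMonoidHom 2 : Fˣ →* Fˣ).range ⊔ (powMonoidHom mm : Fˣ →* Fˣ).range := by
      rw [← hrange]
      refine le_antisymm ?_ (sup_le ?_ ?_)
      · rintro _ ⟨g, hg, rfl⟩
        obtain ⟨c, b, rfl⟩ := (hcent g).1 hg
        show mu (scal c * ι' b) ∈ _
        rw [mu_mul hm1, mu_scal hm1, hmuι]
        exact Subgroup.mul_mem_sup ⟨c, rfl⟩ ⟨_, rfl⟩
      · rintro _ ⟨c, rfl⟩
        exact ⟨scal c, (hcent _).2 ⟨c, 1, by rw [map_one, mul_one]⟩, mu_scal hm1 c⟩
      · rintro _ ⟨c, rfl⟩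
        obtain ⟨b, hb⟩ := mu_surjective hm1 c
        exact ⟨ι' b, (hcent _).2 ⟨1, b, by rw [scal_one, one_mul]⟩, (hmuι b).trans (hb ▸ rfl)⟩
    rw [hset, index_pow_sup 2 mm (hcardU ▸ ⟨_, hmul.symm⟩)]

end Cfsg.Lib.Sympl
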