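import Cfsg.Agent.Known.Sympl.Field

/-!
Similitudes commuting projectively with a field automorphism come from the fixed field.
-/

set_option autoImplicit false
set_option linter.unusedSectionVars false

namespace Cfsg.Lib.Sympl

open Matrix Cfsg.Lib.Classical

variable {F : Type*} [Field F] [Fintype F] {m : ℕ}

local notation "Big" => Matrix (Fin m ⊕ Fin m) (Fin m ⊕ Fin m) F
local notation "GLB" => GL (Fin m ⊕ Fin m) F
local notation "Pm" => Cfsg.PSp m F
local notation "GS" => Cfsg.GSp m F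

/-- Rational similitudes, and the centraliser of a field automorphism. -/
theorem exists_rational (hm : 2 ≤ m) {σ : F ≃+* F} {F₀ : Type*} [Field F₀] [Fintype F₀] (ι : F₀ →+* F)
    (hι : ∀ x, σ x = x ↔ x ∈ Set.range ι) :
    ∃ ι' : Cfsg.GSp m F₀ →* GS,
      (∀ b, (((ι' b : GS) : GLB) : Big) = (((b : GL (Fin m ⊕ Fin m) F₀) : Matrix _ _ F₀)).map ι) ∧
      ∀ g : GS, conjS g ∈ Subgroup.centralizer {(fieldS σ : MulAut Pm)} ↔
        ∃ (c : Fˣ) (b₀ : Cfsg.GSp m F₀), g = scal c * ι' b₀ := by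
  classical
  have hm1 : 1 ≤ m := by omega
  have hmap : ∀ b : Cfsg.GSp m F₀, ((((b : GL (Fin m ⊕ Fin m) F₀) : Matrix _ _ F₀)).map ι)ᵀ *
      Matrix.J (Fin m) F * (((b : GL (Fin m ⊕ Fin m) F₀) : Matrix _ _ F₀)).map ι =
        ι (mu b : F₀) • Matrix.J (Fin m) F := by
    intro b
    have hJ : (Matrix.J (Fin m) F₀).map ι = Matrix.J (Fin m) F := by
      ext i j
      rcases i with i | i <;> rcases j with j | j <;> by_cases hh : i = j <;> simp [Matrix.J, hh]
    rw [← hJ, ← transpose_map, ← Matrix.map_mul, ← Matrix.map_mul, mu_spec b]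
    ext i j
    simp [Matrix.map_apply, Matrix.smul_apply]
    exact congrFun (congrFun hJ i) j
  let ι' : Cfsg.GSp m F₀ →* GS :=
    ((GeneralLinearGroup.map ι).comp (Cfsg.GSp m F₀).subtype).codRestrict (Cfsg.GSp m F) fun b =>
      (gsp_iff _).2 ⟨Units.map ι.toMonoidHom (mu b), hmap b⟩
  have hι'coe : ∀ b, (((ι' b : GS) : GLB) : Big) = (((b : GL (Fin m ⊕ Fin m) F₀) : Matrix _ _ F₀)).map ι :=
    fun b => rfl
  have hmuι : ∀ b, mu (ι' b) = Units.map ι.toMonoidHom (mu b) := fun b => mu_eq hm1 (hmap b)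
  have hfix : ∀ b, gspAut σ (ι' b) = ι' b := fun b => gs_ext (Matrix.ext fun i j => (hι _).2 ⟨_, rfl⟩)
  have hdesc : ∀ b : GS, (∃ u : Fˣ, gspAut σ b = scal u * b) → ∃ (c : Fˣ) (b₀ : Cfsg.GSp m F₀), b = scal c * ι' b₀ := by
    rintro b ⟨u, hu⟩
    obtain ⟨i, j, hij⟩ : ∃ i j, ((b : GLB) : Big) i j ≠ 0 := by
      by_contra h
      push Not at h
      have h0 : ((b : GLB) : Big) = 0 := Matrix.ext h
      have := (b : GLB).mul_inv
      rw [h0, zero_mul] at this
      exact one_ne_zero (α := F) (by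
        simpa using (congrFun (congrFun this (Sum.inl ⟨0, hm1⟩)) (Sum.inl ⟨0, hm1⟩)).symm)
    let c : Fˣ := Units.mk0 _ hij
    have hent : ∀ k l, σ (((b : GLB) : Big) k l) = u * ((b : GLB) : Big) k l := fun k l => by
      have := congrFun (congrFun (congrArg (fun z : GS => ((z : GLB) : Big)) hu) k) l
      simpa [coe_gspAut, coe_glm, coe_gs_mul, coe_scal, Matrix.smul_apply] using this
    have hfe : ∀ k l, ∃ y, ι y = (((b : GLB) : Big) i j)⁻¹ * ((b : GLB) : Big) k l := fun k l => by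
      refine (hι _).1 ?_
      rw [map_mul, map_inv₀, hent, hent]
      field_simp
    choose y hy using hfe
    have hM : (Matrix.of y).map ι = (((scal c⁻¹ * b : GS) : GLB) : Big) := by
      rw [coe_gs_mul, coe_scal, Matrix.smul_mul, Matrix.one_mul]
      ext k l
      rw [Matrix.map_apply, Matrix.of_apply, hy, Matrix.smul_apply]
      simp [c]
    have hdet : (Matrix.of y).det ≠ 0 := fun h0 => by
      have h1 := GeneralLinearGroup.det_ne_zero ((scal c⁻¹ * b : GS) : GLB)
      rw [← hM, ← RingHom.mapMatrix_apply, ← RingHom.map_det, h0, map_zero] at h1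
      exact h1 rfl
    let o : Fin m := ⟨0, hm1⟩
    set y0 : F₀ := ((Matrix.of y)ᵀ * Matrix.J (Fin m) F₀ * Matrix.of y) (Sum.inr o) (Sum.inl o) with hy0
    have hprod : ((Matrix.of y)ᵀ * Matrix.J (Fin m) F₀ * Matrix.of y).map ι =
        (mu (scal c⁻¹ * b) : F) • Matrix.J (Fin m) F := by
      have hJ : (Matrix.J (Fin m) F₀).map ι = Matrix.J (Fin m) F := by
        ext k l
        rcases k with k | k <;> rcases l with l | l <;> by_cases hh : k = l <;> simp [Matrix.J, hh]
      rw [Matrix.map_mul, Matrix.map_mul, hJ, transpose_map, hM, mu_spec]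
    have hy0' : ι y0 = (mu (scal c⁻¹ * b) : F) := by
      have := congrFun (congrFun hprod (Sum.inr o)) (Sum.inl o)
      rwa [Matrix.map_apply, Matrix.smul_apply, J_entry, smul_eq_mul, mul_one] at this
    have hy0ne : y0 ≠ 0 := fun h0 => (mu (scal c⁻¹ * b)).ne_zero (by rw [← hy0', h0, map_zero])
    have hmem : GeneralLinearGroup.mkOfDetNeZero (Matrix.of y) hdet ∈ Cfsg.GSp m F₀ := by
      refine (gsp_iff _).2 ⟨Units.mk0 y0 hy0ne, ?_⟩
      show (Matrix.of y)ᵀ * Matrix.J (Fin m) F₀ * Matrix.of y = y0 • Matrix.J (Fin m) F₀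
      ext k l
      refine ι.injective ?_
      have := congrFun (congrFun hprod k) l
      rw [Matrix.map_apply] at this
      rw [this, Matrix.smul_apply, Matrix.smul_apply, smul_eq_mul, smul_eq_mul, map_mul, hy0']
      congr 1
      rcases k with k | k <;> rcases l with l | l <;> by_cases hh : k = l <;> simp [Matrix.J, hh]
    refine ⟨c, ⟨_, hmem⟩, ?_⟩
    have e : ι' ⟨_, hmem⟩ = scal c⁻¹ * b := gs_ext hM
    rw [e, ← mul_assoc, ← scal_mul, mul_inv_cancel, scal_one, one_mul]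
  have hcent : ∀ g : GS, conjS g ∈ Subgroup.centralizer {(fieldS σ : MulAut Pm)} ↔
      ∃ (c : Fˣ) (b₀ : Cfsg.GSp m F₀), g = scal c * ι' b₀ := by
    intro g
    rw [Subgroup.mem_centralizer_singleton_iff, fieldS_conjS, mul_left_inj]
    constructor
    · intro h
      obtain ⟨u, hu⟩ := (conjS_eq_one_iff hm (gspAut σ g * g⁻¹)).1 (by rw [map_mul, map_inv, ← h, mul_inv_cancel])
      exact hdesc g ⟨u, mul_inv_eq_iff_eq_mul.1 hu⟩
    · rintro ⟨c, b₀, rfl⟩
      simp only [map_mul, hfix, gspAut_scal, conjS_scal]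
  exact ⟨ι', hι'coe, hcent⟩

end Cfsg.Lib.Sympl
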