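import Cfsg.Agent.Known.Sympl.Char2

/-!
Automorphisms of `PSp (4, 2^f)` of odd order, or fixing a transvection, are semilinear similitudes.

The centre of a Sylow 2-subgroup contains two root groups; the other elements commute with no element of order three.
-/

set_option autoImplicit false
set_option linter.unusedSectionVars false

namespace Cfsg.Lib.Sympl

open Matrix Cfsg.Lib.Classical Cfsg.Lib.Fusion.PSp Cfsg.Lib.Known.AutPSLn

variable {F : Type*} [Field F] [Fintype F] [CharP F 2]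

local notation "Vec" => (Fin 2 ⊕ Fin 2 → F)
local notation "M2" => Matrix (Fin 2) (Fin 2) F
local notation "Big" => Matrix (Fin 2 ⊕ Fin 2) (Fin 2 ⊕ Fin 2) F
local notation "Spm" => Matrix.symplecticGroup (Fin 2) F
local notation "Pm" => Cfsg.PSp 2 F
local notation "π'" => QuotientGroup.mk' (Subgroup.center (Matrix.symplecticGroup (Fin 2) F))
local notation "Bf" => sympBilin 2 F

/-- The general element of the centre of the standard Sylow subgroup. -/
noncomputable def zab (a b : F) : Spm := S (el (0 : Fin 2)) (el 1) a b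

theorem B_el_el (i j : Fin 2) : Bf (el i : Vec) (el j) = 0 := by rw [B_el]; simp [el]

theorem zab_add (a b a' b' : F) : zab a b * zab a' b' = zab (a + a') (b + b') := by
  refine sp_ext fun x => ?_
  rw [zab, zab, zab, Submonoid.coe_mul, ← mulVec_mulVec, S_mulVec (B_el_el 0 1), S_mulVec (B_el_el 0 1),
    S_mulVec (B_el_el 0 1)]
  simp only [map_add, map_smul, LinearMap.add_apply, LinearMap.smul_apply, B_el_el, smul_eq_mul, mul_zero,
    add_zero]
  module

theorem zab_coe (a b : F) : ((zab a b : Spm) : Big) = fromBlocks 1 !![a, b; b, 0] 0 1 := by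
  refine mat_ext fun x => ?_
  rw [zab, S_mulVec (B_el_el 0 1), B_el, B_el]
  funext k
  rcases k with i | i <;> fin_cases i <;>
    simp [el, mulVec, dotProduct, Fintype.sum_sum_type, Fin.sum_univ_two, Matrix.one_apply] <;> ring

theorem mixed_fixed_point_free {a b : F} (ha : a ≠ 0) (hb : b ≠ 0) {g : Spm} (h : g * zab a b = zab a b * g)
    (h3 : g ^ 3 = 1) : g = 1 := by
  set X : M2 := !![a, b; b, 0] with hX
  set P := (g : Big).toBlocks₁₁
  set Q := (g : Big).toBlocks₁₂
  set R := (g : Big).toBlocks₂₁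
  set S' := (g : Big).toBlocks₂₂
  have hg : (g : Big) = fromBlocks P Q R S' := (fromBlocks_toBlocks _).symm
  have h1 : (g : Big) * fromBlocks 1 X 0 1 = fromBlocks 1 X 0 1 * (g : Big) := by
    have := congrArg (fun z : Spm => (z : Big)) h
    simpa [zab_coe] using this
  rw [hg, fromBlocks_multiply, fromBlocks_multiply, fromBlocks_inj] at h1
  simp only [mul_one, mul_zero, add_zero, zero_mul, one_mul, zero_add] at h1
  obtain ⟨e11, e12, -, -⟩ := h1
  have hXR : X * R = 0 := by simpa using e11.symm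
  have hXi : X * !![0, b⁻¹; b⁻¹, -(a / (b * b))] = 1 := by
    ext i j; fin_cases i <;> fin_cases j <;> simp [hX, Matrix.mul_apply, Fin.sum_univ_two, hb] <;> field_simp <;> ring
  have hXi' : !![0, b⁻¹; b⁻¹, -(a / (b * b))] * X = 1 := mul_eq_one_comm.1 hXi
  have hR : R = 0 := by
    rw [← Matrix.one_mul R, ← hXi', Matrix.mul_assoc, hXR, Matrix.mul_zero]
  have hPX : P * X = X * S' := by
    rw [add_comm Q] at e12
    exact add_right_cancel e12
  have hJ := (mem_sp_iff _).1 g.2
  rw [hg, hR, fromBlocks_transpose, Matrix.J, fromBlocks_multiply, fromBlocks_multiply, fromBlocks_inj] at hJ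
  simp only [mul_zero, zero_mul, mul_one, add_zero, zero_add, transpose_zero, mul_neg, neg_mul] at hJ
  obtain ⟨-, -, hSP, -⟩ := hJ
  have hS : S'ᵀ * X * S' = X := by
    rw [Matrix.mul_assoc, ← hPX, ← Matrix.mul_assoc, hSP, Matrix.one_mul]
  have h00 := congrFun (congrFun hS 0) 0
  have h11 := congrFun (congrFun hS 1) 1
  have h01 := congrFun (congrFun hS 0) 1
  simp [hX, Matrix.mul_apply, Fin.sum_univ_two] at h00 h11 h01
  have hs : S' 0 0 = 1 := by
    have : a * (S' 0 0 - 1) ^ 2 = 0 := by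
      linear_combination h00 + (a - a * S' 0 0 - b * S' 0 0 * S' 1 0) * two_eq (F := F)
    exact sub_eq_zero.1 (pow_eq_zero_iff (by norm_num) |>.1 ((mul_eq_zero.1 this).resolve_left ha))
  have ht : S' 0 1 = 0 := by
    have : a * S' 0 1 ^ 2 = 0 := by
      linear_combination h11 - (b * S' 0 1 * S' 1 1) * two_eq (F := F)
    exact pow_eq_zero_iff (by norm_num) |>.1 ((mul_eq_zero.1 this).resolve_left ha)
  rw [hs, ht] at h01
  have hv : S' 1 1 = 1 := mul_left_cancel₀ hb (by linear_combination h01)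
  have hSS : S' * S' = 1 := by
    ext i j; fin_cases i <;> fin_cases j <;> simp [Matrix.mul_apply, Fin.sum_univ_two, hs, ht, hv, CharTwo.add_self_eq_zero]
  have hP : P = S'ᵀ := by
    rw [← Matrix.one_mul P, ← transpose_one, ← hSS, transpose_mul, Matrix.mul_assoc, hSP, Matrix.mul_one]
  have hgg : (g : Big) * (g : Big) = fromBlocks 1 (P * Q + Q * S') 0 1 := by
    rw [hg, hR, fromBlocks_multiply, hSS, hP, ← transpose_mul, hSS]
    simp
  have h4 : g ^ 4 = 1 := Subtype.ext (by
    rw [SubmonoidClass.coe_pow, show (4 : ℕ) = 2 * 2 from rfl, pow_mul, sq, sq, hgg, fromBlocks_multiply]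
    have e : ∀ T : M2, T + T = 0 := fun T => by ext i j; exact CharTwo.add_self_eq_zero _
    simp [e, OneMemClass.coe_one])
  rw [pow_succ, h3, one_mul] at h4
  exact h4

theorem tv_el_commute (a : F) : ∃ w : Spm, w ≠ 1 ∧ w ^ 3 = 1 ∧ w * tv (el (0 : Fin 2)) a = tv (el 0) a * w := by
  let w : Spm := tv (el (1 : Fin 2)) 1 * tv (fr 1) 1
  have hw : ∀ x : Vec, (w : Big) *ᵥ x = x + x (Sum.inl 1) • fr 1 + (x (Sum.inr 1) + x (Sum.inl 1)) • el 1 := by
    intro x
    rw [Submonoid.coe_mul, ← mulVec_mulVec, tv_mulVec, tv_mulVec, B_fr, B_el]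
    funext k
    rcases k with i | i <;> fin_cases i <;> simp [el, fr] <;> ring
  refine ⟨w, fun h => ?_, sp_ext fun x => ?_, ?_⟩
  · have := congrFun (hw (fr (1 : Fin 2))) (Sum.inl 1)
    rw [h, OneMemClass.coe_one, one_mulVec] at this
    simp [el, fr] at this
  · rw [SubmonoidClass.coe_pow, pow_succ, pow_succ, pow_one, ← mulVec_mulVec, ← mulVec_mulVec,
      OneMemClass.coe_one, one_mulVec, hw, hw, hw]
    funext k
    rcases k with i | i <;> fin_cases i <;>
      simp [el, fr] <;> (first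
        | linear_combination (4 * x (Sum.inl 1) + 2 * x (Sum.inr 1)) * two_eq (F := F)
        | linear_combination (2 * x (Sum.inl 1)) * two_eq (F := F)
        | linear_combination (6 * x (Sum.inl 1) + 4 * x (Sum.inr 1)) * two_eq (F := F))
  · rw [← mul_inv_eq_iff_eq_mul, tv_conj, hw]
    congr 1
    simp [el]

/-- A transvection. -/
def IsLong (x : Pm) : Prop := ∃ (v : Vec) (c : F), v ≠ 0 ∧ c ≠ 0 ∧ x = π' (tv v c)

/-- A short root element. -/
def IsShort (x : Pm) : Prop := ∃ (g : Spm) (b : F), b ≠ 0 ∧ x = π' (g * zab 0 b * g⁻¹)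

theorem zab_zero (a : F) : zab a 0 = tv (el (0 : Fin 2)) a := S_zero (B_el_el 0 1) a

theorem not_long_short {x : Pm} (hl : IsLong x) (hs : IsShort x) : False := by
  obtain ⟨v, c, -, -, rfl⟩ := hl
  obtain ⟨g, b, hb, e⟩ := hs
  have e' := π_injective (F := F) (m := 2) (by omega) e
  have e2 : zab 0 b = tv (((g⁻¹ : Spm) : Big) *ᵥ v) c := by
    rw [← tv_conj, e']; group
  set w := ((g⁻¹ : Spm) : Big) *ᵥ v
  have h : ∀ x : Vec, (b * x (Sum.inr 1)) • el 0 + (b * x (Sum.inr 0)) • el 1 = (c * Bf x w) • w := fun x => by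
    have := congrArg (fun z : Spm => (z : Big) *ᵥ x) e2
    simp only [zab, S_mulVec (B_el_el 0 1), tv_mulVec, B_el, zero_mul, zero_add, add_assoc] at this
    exact add_left_cancel this
  have h0 := h (fr 1)
  have h1 := h (fr 0)
  have a0 := congrFun h0 (Sum.inl 0)
  have a1 := congrFun h0 (Sum.inl 1)
  have b1 := congrFun h1 (Sum.inl 1)
  simp [el, fr] at a0 a1 b1
  rcases a1 with (h' | h') | h'
  · simp [h'] at a0; exact hb a0
  · simp [h'] at a0; exact hb a0
  · rw [h', mul_zero] at b1; exact hb b1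

theorem long_conj {x : Pm} (h : IsLong x) (y : Pm) : IsLong (y * x * y⁻¹) := by
  obtain ⟨v, c, hv, hc, rfl⟩ := h
  obtain ⟨g, rfl⟩ := QuotientGroup.mk'_surjective _ y
  exact ⟨(g : Big) *ᵥ v, c, fun h => hv (by rw [← sp_inv_mulVec g v, h, mulVec_zero]), hc, by
    rw [← tv_conj, map_mul, map_mul, map_inv]⟩

theorem short_conj {x : Pm} (h : IsShort x) (y : Pm) : IsShort (y * x * y⁻¹) := by
  obtain ⟨g, b, hb, rfl⟩ := h
  obtain ⟨k, rfl⟩ := QuotientGroup.mk'_surjective _ y
  exact ⟨k * g, b, hb, by rw [← map_inv, ← map_mul, ← map_mul]; congr 1; group⟩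

/-- The image of the standard transvection group. -/
theorem image_cases (α : MulAut Pm) : ∃ g : Spm,
    (R (e0 F (m := 2) (by omega))).map α.toMonoidHom = R ((g : Big) *ᵥ e0 F (by omega)) ∨
    ∀ b : F, b ≠ 0 → ∃ a : F, a ≠ 0 ∧ α (π' (tv (e0 F (m := 2) (by omega)) a)) = π' (g * zab 0 b * g⁻¹) := by
  classical
  have : Fact (Nat.Prime 2) := ⟨Nat.prime_two⟩
  have hπ := π_injective (F := F) (m := 2) (by omega)
  have he : e0 F (m := 2) (by omega) = el 0 := rfl
  obtain ⟨Q, hQ⟩ := exists_sylow (F := F) (m := 2) 2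
  let P : Sylow 2 Pm := Q.mapSurjective (f := π') (QuotientGroup.mk'_surjective _)
  have hP : (P : Subgroup Pm) = (sylU F 2).map π' := by rw [← hQ]; rfl
  let P' : Sylow 2 Pm := P.mapSurjective (f := α.toMonoidHom) α.surjective
  obtain ⟨y, hy⟩ := MulAction.exists_smul_eq Pm P P'
  have hy' : (P : Subgroup Pm).map (MulAut.conj y).toMonoidHom = (P : Subgroup Pm).map α.toMonoidHom := by
    have := congrArg (fun S : Sylow 2 Pm => (S : Subgroup Pm)) hy
    simp only [Sylow.coe_subgroup_smul] at this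
    exact this
  obtain ⟨g, rfl⟩ := QuotientGroup.mk'_surjective _ y
  refine ⟨g, ?_⟩
  have hA : ∀ a : F, π' (tv (el (0 : Fin 2)) a) ∈ zc ((sylU F 2).map π') := fun a => by
    rw [← he]
    refine ⟨⟨_, tv_mem_sylU _ a, rfl⟩, ?_⟩
    rintro _ ⟨u, hu, rfl⟩
    show π' u * π' (tv _ a) = π' (tv _ a) * π' u
    rw [← map_mul, ← map_mul]
    refine congrArg π' ?_
    rw [← mul_inv_eq_iff_eq_mul, tv_conj]
    congr 1
    funext i
    rw [e0, mulVec_single_one, ← fix_of_mem_sylU (F := F) (m := 2) (by omega) hu]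
    exact (congrFun (mulVec_single_one _ _) i).symm
  have key : ∀ a : F, ∃ a' b' : F, (a' = 0 ∨ b' = 0) ∧
      α (π' (tv (el (0 : Fin 2)) a)) = π' (g * zab a' b' * g⁻¹) := by
    intro a
    have hmem : α (π' (tv (el (0 : Fin 2)) a)) ∈ (zc ((sylU F 2).map π')).map (MulAut.conj (π' g)).toMonoidHom := by
      rw [← zc_map, ← hP, hy', zc_map]
      exact ⟨_, hP ▸ hA a, rfl⟩
    obtain ⟨_, ⟨⟨z, hz, rfl⟩, hc⟩, e⟩ := hmem
    obtain ⟨a', b', hzz⟩ := center_sylU2 (F := F) (m := 2) le_rfl hz fun u hu => by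
      have h := hc _ ⟨u, hu, rfl⟩
      exact (hπ (by rw [map_mul, map_mul]; exact h)).symm
    have hzz' : z = zab a' b' := hzz
    subst hzz'
    refine ⟨a', b', ?_, e.symm.trans (by show π' g * π' _ * (π' g)⁻¹ = _; rw [map_mul, map_mul, map_inv])⟩
    by_contra hne
    push Not at hne
    obtain ⟨w, hw, hw3, hcomm⟩ := tv_el_commute (F := F) a
    obtain ⟨k, hk⟩ := QuotientGroup.mk'_surjective (Subgroup.center Spm) (α (π' w))
    have e' : π' (g * zab a' b' * g⁻¹) = α (π' (tv (el (0 : Fin 2)) a)) :=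
      (by rw [map_mul, map_mul, map_inv]; rfl : π' (g * zab a' b' * g⁻¹) = _).trans e
    have h1 : k * (g * zab a' b' * g⁻¹) = g * zab a' b' * g⁻¹ * k := hπ (by
      rw [map_mul π' k, map_mul π' (g * zab a' b' * g⁻¹) k, hk, e', ← map_mul, ← map_mul, ← map_mul, ← map_mul,
        hcomm])
    have h3 : g⁻¹ * k * g = 1 := mixed_fixed_point_free hne.1 hne.2 (by
      calc g⁻¹ * k * g * zab a' b' = g⁻¹ * (k * (g * zab a' b' * g⁻¹)) * g := by group
        _ = _ := by rw [h1]; group) (by
      have : k ^ 3 = 1 := hπ (by rw [map_pow, hk, ← map_pow, ← map_pow, hw3, map_one, map_one])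
      rw [show (g⁻¹ * k * g) ^ 3 = g⁻¹ * k ^ 3 * g by simp only [pow_succ, pow_zero]; group, this]; group)
    have hk1 : k = 1 := by
      calc k = g * (g⁻¹ * k * g) * g⁻¹ := by group
        _ = 1 := by rw [h3]; group
    rw [hk1, map_one, eq_comm, MulEquiv.map_eq_one_iff] at hk
    exact hw (hπ (by rw [hk, map_one]))
  choose fa fb hf hfe using key
  by_cases hall : ∀ a, fb a = 0
  · left
    have hle : (R (e0 F (m := 2) (by omega))).map α.toMonoidHom ≤ R ((g : Big) *ᵥ e0 F (by omega)) := by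
      rintro _ ⟨x, hx, rfl⟩
      obtain ⟨a, rfl⟩ := mem_R.1 hx
      refine mem_R.2 ⟨fa a, ?_⟩
      show π' _ = α _
      rw [he, hfe, hall, zab_zero, tv_conj]
    refine SetLike.coe_injective (Set.eq_of_subset_of_ncard_le hle (le_of_eq ?_) (Set.toFinite _))
    have hcard : ∀ w : Vec, w ≠ 0 → Nat.card (R w) = Nat.card F := fun w hw => by
      have hinj : Function.Injective (fun a : F => π' (tv w a)) := fun a b h => by
        obtain ⟨x, hx⟩ : ∃ x : Vec, Bf x w ≠ 0 := by
          by_contra hh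
          push Not at hh
          exact hw ((sympBilin_nondegenerate 2 F).2 w hh)
        have := congrArg (fun z : Spm => (z : Big) *ᵥ x) (hπ h)
        simp only [tv_mulVec, add_right_inj] at this
        exact mul_right_cancel₀ hx (smul_left_injective F hw this)
      refine (Nat.card_congr ((Equiv.ofInjective _ hinj).trans (Equiv.subtypeEquivRight fun x => ?_))).symm
      exact mem_R.symm
    have hgne : (g : Big) *ᵥ e0 F (m := 2) (by omega) ≠ 0 := fun h => e0_ne (F := F) (m := 2) (by omega) (by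
      rw [← sp_inv_mulVec g (e0 F (m := 2) (by omega)), h, mulVec_zero])
    rw [Set.ncard_eq_toFinset_card', ← Set.ncard_eq_toFinset_card', ← Nat.card_coe_set_eq, ← Nat.card_coe_set_eq]
    show Nat.card ↥(R _) = Nat.card ↥((R (e0 F (m := 2) _)).map α.toMonoidHom)
    rw [hcard _ hgne, Subgroup.card_map_of_injective α.injective, hcard _ (e0_ne _)]
  · right
    push Not at hall
    obtain ⟨a₀, ha₀⟩ := hall
    have hzero : ∀ a, fa a = 0 := by
      intro a
      by_contra hne
      have hb : fb a = 0 := (hf a).resolve_left hne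
      have ha0 : fa a₀ = 0 := (hf a₀).resolve_right ha₀
      have hsum : zab (fa a + fa a₀) (fb a + fb a₀) = zab (fa (a + a₀)) (fb (a + a₀)) := by
        have e := hfe (a + a₀)
        rw [tv_add, map_mul, map_mul, hfe, hfe, ← map_mul] at e
        have e2 := hπ e
        rw [show g * zab (fa a) (fb a) * g⁻¹ * (g * zab (fa a₀) (fb a₀) * g⁻¹) =
          g * (zab (fa a) (fb a) * zab (fa a₀) (fb a₀)) * g⁻¹ by group, zab_add] at e2
        exact mul_left_cancel (mul_right_cancel e2)
      have h2 := congrArg (fun z : Spm => (z : Big)) hsum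
      simp only [zab_coe, fromBlocks_inj] at h2
      have h00 := congrFun (congrFun h2.2.1 0) 0
      have h01 := congrFun (congrFun h2.2.1 0) 1
      simp [hb, ha0] at h00 h01
      rcases hf (a + a₀) with h' | h'
      · exact hne (h00.trans h')
      · exact ha₀ (h01.trans h')
    intro b hb
    have hinj : Function.Injective fb := fun a a' e => by
      have h1 : α (π' (tv (el (0 : Fin 2)) a)) = α (π' (tv (el (0 : Fin 2)) a')) := by
        rw [hfe, hfe, hzero, hzero, e]
      have h2 := congrArg (fun z : Spm => (z : Big)) (hπ (α.injective h1))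
      rw [← zab_zero, ← zab_zero] at h2
      simp only [zab_coe, fromBlocks_inj] at h2
      simpa using congrFun (congrFun h2.2.1 0) 0
    obtain ⟨a, rfl⟩ := (Finite.injective_iff_surjective.1 hinj) b
    refine ⟨a, fun h => hb ?_, by rw [he, hfe, hzero]⟩
    subst h
    have e := hfe 0
    rw [tv_zero, map_one, map_one, hzero] at e
    have h4 : g * zab (0 : F) (fb 0) * g⁻¹ = 1 := hπ (e.symm.trans (map_one π').symm)
    have h5 := congrFun (congrFun (congrArg (fun z : Spm => (z : Big)) (conj_eq_one_iff.1 h4)) (Sum.inl 0)) (Sum.inr 1)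
    simpa [zab_coe] using h5

theorem exists_long_form {x : Pm} (h : IsLong x) : ∃ (k : Spm) (a : F), a ≠ 0 ∧
    x = π' k * π' (tv (e0 F (m := 2) (by omega)) a) * (π' k)⁻¹ := by
  obtain ⟨v, c, hv, hc, rfl⟩ := h
  obtain ⟨k, hk⟩ := transitive (F := F) (m := 2) (e0_ne (by omega)) hv
  exact ⟨k, c, hc, by rw [← map_inv, ← map_mul, ← map_mul, tv_conj, hk]⟩

/-- The two possibilities. -/
theorem long_dichotomy (α : MulAut Pm) :
    ((∀ x, IsLong x → IsLong (α x)) ∧ ∀ {v : Vec}, v ≠ 0 → ∃ w : Vec, w ≠ 0 ∧ (R v).map α.toMonoidHom = R w) ∨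
    ((∀ x, IsLong x → IsShort (α x)) ∧ ∀ x, IsShort x → ∃ y, IsLong y ∧ α y = x) := by
  obtain ⟨g, hg | hg⟩ := image_cases α
  · left
    have hR : ∀ {v : Vec}, v ≠ 0 → ∃ w : Vec, w ≠ 0 ∧ (R v).map α.toMonoidHom = R w := by
      intro v hv
      obtain ⟨h, hh⟩ := transitive (F := F) (m := 2) (e0_ne (by omega)) hv
      obtain ⟨h', hh'⟩ := QuotientGroup.mk'_surjective (Subgroup.center Spm) (α (π' h))
      refine ⟨(h' : Big) *ᵥ ((g : Big) *ᵥ e0 F (by omega)), fun h0 => e0_ne (F := F) (m := 2) (by omega) ?_, ?_⟩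
      · rw [← sp_inv_mulVec g (e0 F (by omega)), ← sp_inv_mulVec h' ((g : Big) *ᵥ e0 F (by omega)), h0, mulVec_zero,
          mulVec_zero]
      · rw [← R_map_conj h', ← hg, ← hh, ← R_map_conj h, Subgroup.map_map, Subgroup.map_map]
        congr 1
        refine MonoidHom.ext fun z => ?_
        show α (π' h * z * (π' h)⁻¹) = π' h' * α z * (π' h')⁻¹
        rw [hh', map_mul, map_mul, map_inv]
    refine ⟨fun x hx => ?_, hR⟩
    obtain ⟨v, c, hv, hc, rfl⟩ := hx
    obtain ⟨w, hw, e⟩ := hR hv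
    have hmem : α (π' (tv v c)) ∈ R w := e ▸ ⟨_, mem_R.2 ⟨c, rfl⟩, rfl⟩
    obtain ⟨d, hd⟩ := mem_R.1 hmem
    refine ⟨w, d, hw, fun hd0 => ?_, hd.symm⟩
    rw [hd0, tv_zero, map_one, eq_comm, MulEquiv.map_eq_one_iff] at hd
    obtain ⟨x, hx⟩ : ∃ x : Vec, Bf x v ≠ 0 := by
      by_contra hh
      push Not at hh
      exact hv ((sympBilin_nondegenerate 2 F).2 v hh)
    have h3 := congrArg (fun z : Spm => (z : Big) *ᵥ x)
      (π_injective (F := F) (m := 2) (by omega) (hd.trans (map_one π').symm))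
    simp [tv_mulVec, hc, hx, hv] at h3
  · right
    refine ⟨fun x hx => ?_, fun x hx => ?_⟩
    · obtain ⟨k, a, ha, rfl⟩ := exists_long_form hx
      rw [map_mul, map_mul, map_inv]
      refine short_conj ?_ _
      classical
      have hsurj : ∀ a : F, a ≠ 0 → ∃ b : F, b ≠ 0 ∧
          α (π' (tv (e0 F (m := 2) (by omega)) a)) = π' (g * zab 0 b * g⁻¹) := by
        choose u hu hue using hg
        intro a ha
        let f : {b : F // b ≠ 0} → {a : F // a ≠ 0} := fun b => ⟨u b b.2, hu b b.2⟩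
        have hf : Function.Injective f := fun b b' e => by
          have e1 := congrArg Subtype.val e
          have h1 := hue b.1 b.2
          rw [show u b.1 b.2 = u b'.1 b'.2 from e1, hue b'.1 b'.2] at h1
          have h2 := congrArg (fun z : Spm => (z : Big))
            (mul_left_cancel (mul_right_cancel (π_injective (F := F) (m := 2) (by omega) h1)))
          simp only [zab_coe, fromBlocks_inj] at h2
          exact Subtype.ext (by simpa using (congrFun (congrFun h2.2.1 0) 1).symm)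
        obtain ⟨b, hb⟩ := (Finite.injective_iff_surjective.1 hf) ⟨a, ha⟩
        exact ⟨b.1, b.2, by rw [← show u b.1 b.2 = a from congrArg Subtype.val hb]; exact hue b.1 b.2⟩
      obtain ⟨b, hb, e⟩ := hsurj a ha
      exact ⟨g, b, hb, e⟩
    · obtain ⟨k, b, hb, rfl⟩ := hx
      obtain ⟨a, ha, e⟩ := hg b hb
      obtain ⟨y, hy⟩ := α.surjective (π' (k * g⁻¹))
      refine ⟨y * π' (tv (e0 F (m := 2) (by omega)) a) * y⁻¹, long_conj ⟨_, a, e0_ne _, ha, rfl⟩ _, ?_⟩
      rw [map_mul, map_mul, map_inv, hy, e, ← map_inv, ← map_mul, ← map_mul]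
      congr 1
      group

theorem R_map_of_long {α : MulAut Pm} {x : Pm} (hx : IsLong x) (hαx : IsLong (α x)) {v : Vec} (hv : v ≠ 0) :
    ∃ w : Vec, w ≠ 0 ∧ (R v).map α.toMonoidHom = R w := by
  rcases long_dichotomy α with ⟨-, h⟩ | ⟨h, -⟩
  · exact h hv
  · exact (not_long_short hαx (h x hx)).elim

/-- Automorphisms of odd order. -/
theorem long_of_odd_order {α : MulAut Pm} (hα : Odd (orderOf α)) {x : Pm} (hx : IsLong x) : IsLong (α x) := by
  rcases long_dichotomy α with ⟨h, -⟩ | ⟨h, h'⟩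
  · exact h x hx
  exfalso
  have hsq : ∀ y, IsLong y → IsLong ((α * α) y) := by
    rcases long_dichotomy (α * α) with ⟨h2, -⟩ | ⟨h2, -⟩
    · exact h2
    · exfalso
      obtain ⟨y, hy, e⟩ := h' _ (h2 x hx)
      rw [MulAut.mul_apply] at e
      exact not_long_short (α.injective e ▸ hy) (h x hx)
  have hit : ∀ (j : ℕ) y, IsLong y → IsLong (((α * α) ^ j) y) := by
    intro j
    induction j with
    | zero => exact fun y hy => hy
    | succ j ih => exact fun y hy => by rw [pow_succ', MulAut.mul_apply]; exact hsq _ (ih y hy)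
  obtain ⟨j, hj⟩ := hα
  have hs := h _ (hit j x hx)
  rw [← MulAut.mul_apply, ← pow_two, ← pow_mul, ← pow_succ', ← hj, pow_orderOf_eq_one] at hs
  exact not_long_short hx hs

/-- Odd order automorphisms are semilinear. -/
theorem decomp_of_odd {α : MulAut Pm} (hα : Odd (orderOf α)) :
    ∃ (g : Cfsg.GSp 2 F) (σ : F ≃+* F), α = conjS g * fieldS σ := by
  have hx : IsLong (π' (tv (e0 F (m := 2) (by omega)) (1 : F))) := ⟨_, 1, e0_ne _, one_ne_zero, rfl⟩
  exact exists_decomp_of_R' le_rfl α (fun hv => R_map_of_long hx (long_of_odd_order hα hx) hv)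
    fun hv => R_map_of_long hx (long_of_odd_order (by rwa [orderOf_inv]) hx) hv

/-- Automorphisms fixing a transvection are semilinear. -/
theorem decomp_of_fix {α : MulAut Pm} {x : Pm} (hx : IsLong x) (h : α x = x) :
    ∃ (g : Cfsg.GSp 2 F) (σ : F ≃+* F), α = conjS g * fieldS σ :=
  exists_decomp_of_R' le_rfl α (fun hv => R_map_of_long hx (h.symm ▸ hx) hv)
    fun hv => R_map_of_long hx (α := α⁻¹) (by
      rw [show (α⁻¹ : MulAut Pm) x = x by conv_lhs => rw [← h]; exact α.symm_apply_apply x]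
      exact hx) hv

end Cfsg.Lib.Sympl
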