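import Cfsg.Agent.Known.Sympl.Aut
import Cfsg.Agent.Known.FieldCosetMain
import Cfsg.Agent.Known.FieldAutLight

/-!
Field automorphisms of prime order of `PSp (2m, q)`: twisted Hilbert 90 for similitudes, centralisers, splitting.
-/

set_option autoImplicit false
set_option linter.unusedSectionVars false

namespace Cfsg.Lib.Sympl

open Matrix Cfsg.Lib.Classical
open Cfsg.Lib.Known.AutPSLn (tnorm tnorm_succ' mul_twist_pow exists_pow_norm)

variable {F : Type*} [Field F] [Fintype F] {m : ℕ}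

section Generic

variable {ι : Type*} [Fintype ι] [DecidableEq ι]

/-- The entrywise field automorphism of `GL`. -/
noncomputable def glm (σ : F ≃+* F) : MulAut (GL ι F) where
  toFun := Matrix.GeneralLinearGroup.map σ.toRingHom
  invFun := Matrix.GeneralLinearGroup.map σ.symm.toRingHom
  left_inv g := Units.ext (Matrix.ext fun i j => σ.symm_apply_apply _)
  right_inv g := Units.ext (Matrix.ext fun i j => σ.apply_symm_apply _)
  map_mul' := map_mul _

theorem coe_glm (σ : F ≃+* F) (g : GL ι F) : ((glm σ g : GL ι F) : Matrix ι ι F) = (g : Matrix ι ι F).map σ := rfl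

/-- Hilbert 90 for `GL`. -/
theorem hilbert90' {σ : F ≃+* F} {r : ℕ} (hord : orderOf σ = r) (hr : 0 < r) (g : GL ι F)
    (hg : tnorm (glm σ) g r = 1) : ∃ h : GL ι F, g * glm σ h = h := by
  classical
  let P : (ι → F) → (ι → F) := fun v => ∑ i ∈ Finset.range r,
    ((tnorm (glm σ) g i : GL ι F) : Matrix ι ι F) *ᵥ ((σ ^ i) ∘ v)
  let Φ : (ι → F) → (ι → F) := fun v => (g : Matrix ι ι F) *ᵥ (σ ∘ v)
  have hfix : ∀ v, Φ (P v) = P v := by
    intro v
    have e1 : Φ (P v) = ∑ i ∈ Finset.range r,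
        ((tnorm (glm σ) g (i + 1) : GL ι F) : Matrix ι ι F) *ᵥ ((σ ^ (i + 1)) ∘ v) := by
      show (g : Matrix ι ι F) *ᵥ (σ ∘ P v) = _
      have e : σ ∘ P v = ∑ i ∈ Finset.range r,
          (((tnorm (glm σ) g i : GL ι F) : Matrix ι ι F).map σ) *ᵥ ((σ ^ (i + 1)) ∘ v) := by
        funext a
        simp only [P, Function.comp_apply, Finset.sum_apply, map_sum]
        refine Finset.sum_congr rfl fun i _ => ?_
        rw [pow_succ' σ i]
        simp [mulVec, dotProduct, RingAut.mul_apply]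
      rw [e, mulVec_sum]
      refine Finset.sum_congr rfl fun i _ => ?_
      rw [mulVec_mulVec, tnorm, Units.val_mul, coe_glm]
    rw [e1]
    have h1 := Finset.sum_range_succ' (fun i => ((tnorm (glm σ) g i : GL ι F) : Matrix ι ι F) *ᵥ ((σ ^ i) ∘ v)) r
    have h2 := Finset.sum_range_succ (fun i => ((tnorm (glm σ) g i : GL ι F) : Matrix ι ι F) *ᵥ ((σ ^ i) ∘ v)) r
    rw [h2, hg] at h1
    have h3 : σ ^ r = 1 := hord ▸ pow_orderOf_eq_one σ
    have h4 : tnorm (glm σ) g 0 = 1 := rfl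
    rw [h4, pow_zero, h3] at h1
    exact (add_right_cancel h1).symm
  have hspan : Submodule.span F {v : ι → F | Φ v = v} = ⊤ := by
    by_contra hne
    obtain ⟨ψ, hψ, hψW⟩ := Submodule.exists_le_ker_of_lt_top _ (lt_top_iff_ne_top.2 hne)
    refine hψ (LinearMap.ext fun v => ?_)
    have hz : ∀ c : F, ∑ i : Fin r,
        ψ (((tnorm (glm σ) g i : GL ι F) : Matrix ι ι F) *ᵥ ((σ ^ (i : ℕ)) ∘ v)) * (σ ^ (i : ℕ)) c = 0 := by
      intro c
      have h0 : ψ (P (c • v)) = 0 := hψW (Submodule.subset_span (hfix _))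
      simp only [P, map_sum] at h0
      rw [Finset.sum_range] at h0
      refine Eq.trans (Finset.sum_congr rfl fun i _ => ?_) h0
      have e : ((σ ^ (i : ℕ)) ∘ (c • v)) = (σ ^ (i : ℕ)) c • ((σ ^ (i : ℕ)) ∘ v) := by
        funext a; simp
      rw [e, mulVec_smul, map_smul, smul_eq_mul, mul_comm]
    have hinj : Function.Injective fun i : Fin r => (((σ ^ (i : ℕ) : F ≃+* F) : F →+* F) : F →* F) := by
      intro i j e
      have : σ ^ (i : ℕ) = σ ^ (j : ℕ) := RingEquiv.ext fun x => DFunLike.congr_fun e x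
      exact Fin.ext (pow_injOn_Iio_orderOf (hord.symm ▸ i.2 : (i : ℕ) < orderOf σ)
        (hord.symm ▸ j.2 : (j : ℕ) < orderOf σ) this)
    have hli := (linearIndependent_monoidHom F F).comp _ hinj
    have h0 := Fintype.linearIndependent_iff.1 hli _ (funext fun c => by
      simp only [Finset.sum_apply, Pi.smul_apply, smul_eq_mul, Function.comp_apply, Pi.zero_apply]
      exact hz c) ⟨0, hr⟩
    simpa [tnorm, Function.comp_def] using h0
  obtain ⟨b, hbS, hbspan, hbli⟩ := exists_linearIndependent F {v : ι → F | Φ v = v}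
  let bas : Module.Basis b F (ι → F) := Module.Basis.mk hbli (by
    rw [Subtype.range_coe_subtype, Set.setOf_mem_eq, hbspan, hspan])
  have : Fintype b := FiniteDimensional.fintypeBasisIndex bas
  have hcard : Fintype.card b = Fintype.card ι := by
    rw [← Module.finrank_eq_card_basis bas, Module.finrank_pi]
  let e := Fintype.equivOfCardEq hcard
  let B : Matrix ι ι F := Matrix.of fun i j => (e.symm j : ι → F) i
  have hB : IsUnit B := by
    rw [← Matrix.linearIndependent_cols_iff_isUnit]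
    exact hbli.comp _ e.symm.injective
  refine ⟨hB.unit, Units.ext ?_⟩
  rw [Units.val_mul, coe_glm, IsUnit.unit_spec]
  ext i j
  have := congrFun (hbS (e.symm j).2 : Φ _ = _) i
  exact this

end Generic

local notation "Vec" => (Fin m ⊕ Fin m → F)
local notation "Big" => Matrix (Fin m ⊕ Fin m) (Fin m ⊕ Fin m) F
local notation "GLB" => GL (Fin m ⊕ Fin m) F
local notation "Spm" => Matrix.symplecticGroup (Fin m) F
local notation "Pm" => Cfsg.PSp m F
local notation "GS" => Cfsg.GSp m F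
local notation "π'" => QuotientGroup.mk' (Subgroup.center (Matrix.symplecticGroup (Fin m) F))
local notation "JJ" => Matrix.J (Fin m) F

/-- The field automorphism of the similitude group. -/
noncomputable def gspAut (σ : F ≃+* F) : MulAut GS where
  toFun := gspMap σ
  invFun := gspMap σ.symm
  left_inv g := Subtype.ext (Units.ext (Matrix.ext fun i j => σ.symm_apply_apply _))
  right_inv g := Subtype.ext (Units.ext (Matrix.ext fun i j => σ.apply_symm_apply _))
  map_mul' g h := Subtype.ext (Units.ext (by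
    show (((g : GLB) : Big) * ((h : GLB) : Big)).map σ = (((g : GLB) : Big)).map σ * (((h : GLB) : Big)).map σ
    exact Matrix.map_mul))

theorem coe_gspAut (σ : F ≃+* F) (g : GS) : ((gspAut σ g : GS) : GLB) = glm σ (g : GLB) := rfl

theorem tnorm_coe (σ : F ≃+* F) (g : GS) : ∀ k : ℕ,
    ((tnorm (gspAut σ) g k : GS) : GLB) = tnorm (glm σ) (g : GLB) k
  | 0 => rfl
  | k + 1 => by rw [tnorm, tnorm, Subgroup.coe_mul, coe_gspAut, tnorm_coe σ g k]

theorem fieldS_conjS (σ : F ≃+* F) (g : GS) : (fieldS σ : MulAut Pm) * conjS g = conjS (gspAut σ g) * fieldS σ :=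
  fieldS_mul_conjS σ g

/-- The scalar similitudes. -/
noncomputable def scal (u : Fˣ) : GS :=
  ⟨Units.map (Matrix.scalar (Fin m ⊕ Fin m) : F →+* Big).toMonoidHom u, (gsp_iff _).2 ⟨u * u, by
    show (Matrix.scalar (Fin m ⊕ Fin m) (u : F))ᵀ * JJ * Matrix.scalar (Fin m ⊕ Fin m) (u : F) = _
    rw [scalar_apply, diagonal_transpose, ← smul_one_eq_diagonal, Matrix.smul_mul, Matrix.one_mul, Matrix.mul_smul,
      Matrix.mul_one, smul_smul, Units.val_mul]⟩⟩

theorem coe_scal (u : Fˣ) : (((scal u : GS) : GLB) : Big) = (u : F) • 1 := by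
  show Matrix.scalar (Fin m ⊕ Fin m) (u : F) = _
  rw [scalar_apply, smul_one_eq_diagonal]

theorem gs_ext {g h : GS} (e : ((g : GLB) : Big) = ((h : GLB) : Big)) : g = h := Subtype.ext (Units.ext e)

theorem coe_gs_mul (g h : GS) : (((g * h : GS) : GLB) : Big) = ((g : GLB) : Big) * ((h : GLB) : Big) := rfl

theorem scal_mul (u v : Fˣ) : scal (m := m) (u * v) = scal u * scal v := gs_ext (by
  rw [coe_gs_mul, coe_scal, coe_scal, coe_scal, Matrix.smul_mul, Matrix.one_mul, smul_smul, Units.val_mul])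

theorem scal_one : scal (F := F) (m := m) 1 = 1 := gs_ext (by rw [coe_scal, Units.val_one, one_smul]; rfl)

theorem scal_comm (u : Fˣ) (g : GS) : scal u * g = g * scal u := gs_ext (by
  rw [coe_gs_mul, coe_gs_mul, coe_scal, Matrix.smul_mul, Matrix.one_mul, Matrix.mul_smul, Matrix.mul_one])

theorem gspAut_scal (σ : F ≃+* F) (u : Fˣ) :
    gspAut σ (scal u : GS) = scal (Units.map σ.toRingHom.toMonoidHom u) := gs_ext (by
  rw [coe_gspAut, coe_glm, coe_scal, coe_scal]
  ext i j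
  by_cases h : i = j <;> simp [Matrix.one_apply, h])

theorem scal_injective (hm : 1 ≤ m) : Function.Injective (scal (F := F) (m := m)) := fun u v h => by
  have h1 := congrArg (fun g : GS => ((g : GLB) : Big) (Sum.inl ⟨0, hm⟩) (Sum.inl ⟨0, hm⟩)) h
  simp only [coe_scal, Matrix.smul_apply, Matrix.one_apply_eq, smul_eq_mul, mul_one] at h1
  exact Units.ext h1

theorem conjS_scal (u : Fˣ) : (conjS (scal u) : MulAut Pm) = 1 :=
  MulEquiv.ext fun x => QuotientGroup.induction_on x fun s => congrArg π' (Subtype.ext (by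
    show ((conjSp (scal u) s : Spm) : Big) = (s : Big)
    have h : ((scal u : GS) : GLB) * ((scal u : GS) : GLB)⁻¹ = 1 := mul_inv_cancel _
    rw [coe_conjSp, coe_scal, Matrix.smul_mul, Matrix.one_mul, Matrix.smul_mul, ← Matrix.mul_smul]
    have h' := congrArg Units.val h
    rw [Units.val_mul, coe_scal, Matrix.smul_mul, Matrix.one_mul, Units.val_one] at h'
    rw [h', Matrix.mul_one]))

/-- The kernel of the semilinear action. -/
theorem conjS_fieldS_eq_one (hm : 2 ≤ m) {g : GS} {σ : F ≃+* F} (h : (conjS g : MulAut Pm) * fieldS σ = 1) :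
    (∃ u : Fˣ, g = scal u) ∧ σ = 1 := by
  have hp : ∀ v : Vec, v ≠ 0 → ∃ c : F, ((g : GLB) : Big) *ᵥ (σ ∘ v) = c • v := by
    intro v hv
    have e := tv_semi g σ v
    rw [h] at e
    have hne : ((g : GLB) : Big) *ᵥ (σ ∘ v) ≠ 0 := fun h0 => hv (funext fun i => by
      have h1 := congrArg (fun w => (((g : GLB)⁻¹ : GLB) : Big) *ᵥ w) h0
      simp only [mulVec_mulVec, Units.inv_mul, one_mulVec, mulVec_zero] at h1
      exact σ.injective ((congrFun h1 i).trans (map_zero σ).symm))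
    obtain ⟨c, hc⟩ := Submodule.mem_span_singleton.1 (eq_of_R hm hne (le_of_eq (e.symm.trans (Subgroup.map_id _))))
    exact ⟨c, hc.symm⟩
  have hs : ∀ i, σ ∘ (Pi.single i (1 : F) : Vec) = Pi.single i 1 := fun i => by
    funext k; by_cases hk : k = i <;> simp [hk]
  choose c hc using fun i => hp (Pi.single i 1) (Pi.single_ne_zero_iff.2 one_ne_zero)
  simp only [hs] at hc
  have hc0 : ∀ i, c i ≠ 0 := fun i h0 => by
    have h1 := congrArg (fun w => (((g : GLB)⁻¹ : GLB) : Big) *ᵥ w) (hc i)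
    simp only [h0, zero_smul, mulVec_mulVec, Units.inv_mul, one_mulVec, mulVec_zero] at h1
    exact one_ne_zero (α := F) (by simpa using congrFun h1 i)
  have key : ∀ i j, i ≠ j → ∀ a : F, a ≠ 0 → c i * a = σ a * c j := by
    intro i j hij a ha
    have hne : (Pi.single i 1 + a • Pi.single j 1 : Vec) ≠ 0 := fun h0 => by simpa [hij] using congrFun h0 i
    obtain ⟨d, hd⟩ := hp _ hne
    have e : σ ∘ (Pi.single i 1 + a • Pi.single j 1 : Vec) = Pi.single i 1 + σ a • Pi.single j 1 := by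
      funext k
      by_cases h1 : k = i <;> by_cases h2 : k = j <;> simp [h1, h2, hij, hij.symm]
    rw [e, mulVec_add, mulVec_smul, hc, hc] at hd
    have e1 := congrFun hd i
    have e2 := congrFun hd j
    simp [hij, hij.symm] at e1 e2
    rw [e1]; linear_combination -e2
  let i0 : Fin m ⊕ Fin m := Sum.inl ⟨0, by omega⟩
  let j0 : Fin m ⊕ Fin m := Sum.inr ⟨0, by omega⟩
  have hij : i0 ≠ j0 := by simp [i0, j0]
  have hall : ∀ i, c i = c i0 := fun i => by
    rcases eq_or_ne i i0 with rfl | h1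
    · rfl
    · have := key i i0 h1 1 one_ne_zero
      rwa [mul_one, map_one, one_mul] at this
  refine ⟨⟨Units.mk0 (c i0) (hc0 i0), gs_ext ?_⟩, RingEquiv.ext fun a => ?_⟩
  · rw [coe_scal]
    refine Matrix.ext_of_mulVec_single fun i => ?_
    rw [hc, smul_mulVec, one_mulVec, hall]
    rfl
  · show σ a = a
    rcases eq_or_ne a 0 with rfl | ha
    · exact map_zero σ
    · have := key i0 j0 hij a ha
      rw [hall j0] at this
      exact mul_left_cancel₀ (hc0 i0) (by linear_combination -this)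

theorem conjS_eq_one_iff (hm : 2 ≤ m) (g : GS) : (conjS g : MulAut Pm) = 1 ↔ ∃ u : Fˣ, g = scal u :=
  ⟨fun h => (conjS_fieldS_eq_one hm (g := g) (σ := 1) (by rw [h, map_one, one_mul])).1,
    fun ⟨u, hu⟩ => hu ▸ conjS_scal u⟩

/-- The multiplier. -/
noncomputable def mu (g : GS) : Fˣ := ((gsp_iff (g : GLB)).1 g.2).choose

theorem mu_spec (g : GS) : ((g : GLB) : Big)ᵀ * JJ * ((g : GLB) : Big) = (mu g : F) • JJ :=
  ((gsp_iff (g : GLB)).1 g.2).choose_spec

theorem mu_eq (hm : 1 ≤ m) {g : GS} {c : Fˣ} (h : ((g : GLB) : Big)ᵀ * JJ * ((g : GLB) : Big) = (c : F) • JJ) :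
    mu g = c := Units.ext (smul_J_inj hm ((mu_spec g).symm.trans h))

theorem mu_mul (hm : 1 ≤ m) (g h : GS) : mu (g * h) = mu g * mu h := mu_eq hm (by
  rw [coe_gs_mul, transpose_mul, show ((h : GLB) : Big)ᵀ * ((g : GLB) : Big)ᵀ * JJ *
      (((g : GLB) : Big) * ((h : GLB) : Big)) =
      ((h : GLB) : Big)ᵀ * (((g : GLB) : Big)ᵀ * JJ * ((g : GLB) : Big)) * ((h : GLB) : Big) by
        simp only [Matrix.mul_assoc],
    mu_spec, Matrix.mul_smul, Matrix.smul_mul, mu_spec, smul_smul, Units.val_mul])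

/-- The multiplier as a homomorphism. -/
noncomputable def muHom (hm : 1 ≤ m) : GS →* Fˣ := MonoidHom.mk' mu (mu_mul hm)

theorem mu_spToGSp (hm : 1 ≤ m) (s : Spm) : mu (spToGSp s) = 1 := mu_eq hm (by
  rw [Units.val_one, one_smul]; exact (mem_sp_iff _).1 s.2)

theorem exists_sp_of_mu (hm : 1 ≤ m) {g : GS} (h : mu g = 1) : ∃ s : Spm, g = spToGSp s := by
  refine ⟨⟨((g : GLB) : Big), (mem_sp_iff _).2 ?_⟩, gs_ext rfl⟩
  rw [mu_spec g, h, Units.val_one, one_smul]

theorem mu_scal (hm : 1 ≤ m) (u : Fˣ) : mu (scal (m := m) u) = u ^ 2 := mu_eq hm (by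
  rw [coe_scal, transpose_smul, transpose_one, Matrix.smul_mul, Matrix.one_mul, Matrix.mul_smul, Matrix.mul_one,
    smul_smul, Units.val_pow_eq_pow_val, sq])

theorem mu_surjective (hm : 1 ≤ m) (c : Fˣ) : ∃ g : GS, mu g = c := by
  let d : (Fin m ⊕ Fin m) → Fˣ := Sum.elim (fun _ => c) fun _ => 1
  let g : GLB := ⟨Matrix.diagonal fun i => (d i : F), Matrix.diagonal fun i => ((d i)⁻¹ : Fˣ),
    by rw [diagonal_mul_diagonal, ← diagonal_one]; exact congrArg diagonal (funext fun i => Units.mul_inv _),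
    by rw [diagonal_mul_diagonal, ← diagonal_one]; exact congrArg diagonal (funext fun i => Units.inv_mul _)⟩
  have h : (g : Big)ᵀ * JJ * (g : Big) = (c : F) • JJ := by
    show (Matrix.diagonal fun i => (d i : F))ᵀ * JJ * (Matrix.diagonal fun i => (d i : F)) = _
    rw [diagonal_transpose]
    ext i j
    rw [mul_diagonal, diagonal_mul, Matrix.smul_apply]
    rcases i with i | i <;> rcases j with j | j <;> by_cases hij : i = j <;> simp [d, Matrix.J, hij]
  exact ⟨⟨g, (gsp_iff g).2 ⟨c, h⟩⟩, mu_eq hm h⟩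

theorem inn_le (g : MulAut Pm) (hg : g ∈ Cfsg.Inn Pm) : g ∈ Cfsg.inndiagPSp m F := by
  obtain ⟨s, rfl⟩ := (inn_iff g).1 hg
  rw [inndiag_eq]; exact ⟨_, rfl⟩

theorem inndiag_eq_inn (hm : 1 ≤ m) (h2 : (2 : F) = 0) : Cfsg.inndiagPSp m F = Cfsg.Inn Pm := by
  refine le_antisymm ?_ inn_le
  rw [inndiag_eq]
  rintro _ ⟨g, rfl⟩
  have hinj : Function.Injective (fun x : F => x ^ 2) := fun x y (e : x ^ 2 = y ^ 2) => by
    have : (x - y) ^ 2 = 0 := by linear_combination e + (y ^ 2 - x * y) * h2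
    exact sub_eq_zero.1 (pow_eq_zero_iff two_ne_zero |>.1 this)
  obtain ⟨u, hu⟩ := (Finite.injective_iff_surjective.1 hinj) (mu g : F)
  have hu0 : u ≠ 0 := by rintro rfl; exact (mu g).ne_zero (hu.symm.trans (zero_pow two_ne_zero))
  have h1 : mu (scal (Units.mk0 u hu0)⁻¹ * g) = 1 := by
    rw [mu_mul hm, mu_scal hm, inv_pow, inv_mul_eq_one]
    exact Units.ext hu
  obtain ⟨s, hs⟩ := exists_sp_of_mu hm h1
  rw [inn_iff]
  exact ⟨s, by rw [← hs, map_mul, conjS_scal, one_mul]⟩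

/-- The inner-diagonal group is normal. -/
theorem inndiag_normal' (hm : 2 ≤ m) {α δ : MulAut Pm} (hδ : δ ∈ Cfsg.inndiagPSp m F) :
    α * δ * α⁻¹ ∈ Cfsg.inndiagPSp m F := by
  by_cases h2 : (2 : F) = 0
  · rw [inndiag_eq_inn (by omega) h2] at hδ ⊢
    exact (Cfsg.innNormal Pm).conj_mem δ hδ α
  obtain ⟨p, hp⟩ := CharP.exists F
  have := Fact.mk (CharP.char_is_prime F p)
  obtain ⟨a, τ, rfl⟩ := exists_decomp_aut p hm h2 α
  rw [inndiag_eq] at hδ ⊢
  obtain ⟨g, rfl⟩ := hδ
  refine ⟨a * gspAut τ g * a⁻¹, ?_⟩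
  rw [map_mul, map_mul, map_inv]
  calc conjS a * conjS (gspAut τ g) * (conjS a)⁻¹
      = conjS a * (conjS (gspAut τ g) * fieldS τ) * (conjS a * fieldS τ)⁻¹ := by group
    _ = _ := by rw [← fieldS_conjS]; group

theorem tnorm_scal_mul (σ : F ≃+* F) (u : Fˣ) (g : GS) : ∀ k : ℕ,
    tnorm (gspAut σ) (scal u * g) k =
      scal (∏ i ∈ Finset.range k, Units.map (σ ^ i).toRingHom.toMonoidHom u) * tnorm (gspAut σ) g k
  | 0 => by rw [tnorm, tnorm, Finset.prod_range_zero, scal_one, one_mul]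
  | k + 1 => by
    rw [tnorm, tnorm_scal_mul σ u g k, map_mul, gspAut_scal, tnorm, Finset.prod_range_succ', scal_mul]
    rw [← mul_assoc, mul_assoc (scal u) g, ← scal_comm, ← mul_assoc, mul_assoc (scal u * _) g]
    congr 1
    rw [scal_comm]
    refine congrArg₂ (· * ·) (congrArg scal ?_) (congrArg scal (Units.ext rfl))
    rw [map_prod]
    refine Finset.prod_congr rfl fun i _ => Units.ext ?_
    rw [pow_succ']
    rfl

/-- Hilbert 90 for similitudes. -/
theorem hilbert90_gsp (hm : 1 ≤ m) {σ : F ≃+* F} {r : ℕ} (hord : orderOf σ = r) (hr : 0 < r) (g : GS)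
    (hg : tnorm (gspAut σ) g r = 1) : ∃ h : GS, g * gspAut σ h = h := by
  classical
  obtain ⟨h, hh⟩ := hilbert90' hord hr (g : GLB) (by rw [← tnorm_coe, hg]; rfl)
  have hh' : ((g : GLB) : Big) * (h : Big).map σ = (h : Big) := congrArg Units.val hh
  set A : Big := (h : Big)ᵀ * JJ * (h : Big) with hA
  have hAs : (mu g : F) • A.map σ = A := by
    rw [hA]
    conv_rhs => rw [← hh']
    rw [transpose_mul, show ((h : Big).map σ)ᵀ * ((g : GLB) : Big)ᵀ * JJ * (((g : GLB) : Big) * (h : Big).map σ) =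
      ((h : Big).map σ)ᵀ * (((g : GLB) : Big)ᵀ * JJ * ((g : GLB) : Big)) * (h : Big).map σ by
        simp only [Matrix.mul_assoc],
      mu_spec, Matrix.mul_smul, Matrix.smul_mul, Matrix.map_mul, Matrix.map_mul, transpose_map, map_J]
  have hA0 : A ≠ 0 := by
    intro h0
    have h1 : JJ = ((h⁻¹ : GLB) : Big)ᵀ * A * ((h⁻¹ : GLB) : Big) := by
      rw [hA]
      simp only [← Matrix.mul_assoc, ← transpose_mul, Units.mul_inv, transpose_one, Matrix.one_mul]
      rw [Matrix.mul_assoc, Units.mul_inv, Matrix.mul_one]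
    rw [h0, Matrix.mul_zero, Matrix.zero_mul] at h1
    have h2 := congrFun (congrFun h1 (Sum.inr (⟨0, hm⟩ : Fin m))) (Sum.inl ⟨0, hm⟩)
    rw [J_entry] at h2
    exact one_ne_zero h2
  obtain ⟨a, b, hab⟩ : ∃ a b, A a b ≠ 0 := by
    by_contra h0
    push Not at h0
    exact hA0 (Matrix.ext h0)
  set e := A a b with he
  have hent : ∀ i j, (mu g : F) * σ (A i j) = A i j := fun i j => congrFun (congrFun hAs i) j
  let L : Subfield F := RingHom.eqLocusField σ.toRingHom (RingHom.id F)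
  have hfix : ∀ i j, σ (e⁻¹ * A i j) = e⁻¹ * A i j := fun i j => by
    have h1 := hent a b
    have h2 := hent i j
    rw [← he] at h1
    have hσe : σ e ≠ 0 := (map_ne_zero σ).2 hab
    rw [map_mul, map_inv₀]
    field_simp
    linear_combination (σ e) * h2 - σ (A i j) * h1
  let A0 : Matrix (Fin m ⊕ Fin m) (Fin m ⊕ Fin m) L := Matrix.of fun i j => ⟨e⁻¹ * A i j, hfix i j⟩
  have hA0map : A0.map L.subtype = e⁻¹ • A := rfl
  have halt : (Matrix.toBilin' A0).IsAlt := fun u => by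
    refine L.subtype_injective ?_
    rw [map_zero, Matrix.toBilin'_apply', RingHom.map_dotProduct]
    have : L.subtype ∘ (A0 *ᵥ u) = (A0.map L.subtype) *ᵥ (L.subtype ∘ u) := by
      funext i; exact RingHom.map_mulVec _ _ _ i
    rw [this, hA0map, smul_mulVec, dotProduct_smul, hA, ← form_mul, sympBilin_isAlt m F, smul_zero]
  have hnd : (Matrix.toBilin' A0).Nondegenerate := by
    rw [LinearMap.BilinForm.nondegenerate_toBilin'_iff_det_ne_zero]
    intro h0
    have h1 : (e⁻¹ • A).det = 0 := by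
      rw [← hA0map, ← RingHom.mapMatrix_apply, ← RingHom.map_det, h0, map_zero]
    rw [det_smul, hA, det_mul, det_mul, det_transpose, mul_eq_zero, pow_eq_zero_iff', mul_eq_zero,
      mul_eq_zero] at h1
    have hdh : (h : Big).det ≠ 0 := GeneralLinearGroup.det_ne_zero h
    have hdJ : (JJ).det ≠ 0 := fun h3 => by
      have := congrArg Matrix.det (Matrix.J_squared (Fin m) F)
      rw [det_mul, h3, zero_mul, det_neg, det_one, mul_one] at this
      exact pow_ne_zero _ (neg_ne_zero.2 one_ne_zero) this.symm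
    rcases h1 with ⟨h4, -⟩ | (h4 | h4) | h4
    · exact inv_ne_zero hab h4
    · exact hdh h4
    · exact hdJ h4
    · exact hdh h4
  obtain ⟨eq0, heq0⟩ := exists_isometry_sympBilin halt hnd (m := m) (by simp [two_mul])
  set k0 : Matrix (Fin m ⊕ Fin m) (Fin m ⊕ Fin m) L := LinearMap.toMatrix' eq0.symm.toLinearMap with hk0
  have hk0J : k0ᵀ * A0 * k0 = Matrix.J (Fin m) L := by
    ext i j
    have h1 := heq0 (eq0.symm (Pi.single i 1)) (eq0.symm (Pi.single j 1))
    rw [LinearEquiv.apply_symm_apply, LinearEquiv.apply_symm_apply, sympBilin_apply, Matrix.toBilin'_apply'] at h1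
    have hk : ∀ w, k0 *ᵥ w = eq0.symm w := fun w => by
      rw [hk0, LinearMap.toMatrix'_mulVec]; rfl
    rw [← hk, ← hk] at h1
    have h2 : ∀ M : Matrix (Fin m ⊕ Fin m) (Fin m ⊕ Fin m) L, M i j = Pi.single i 1 ⬝ᵥ M *ᵥ Pi.single j 1 :=
      fun M => by simp
    rw [h2 (k0ᵀ * A0 * k0), h2 (Matrix.J (Fin m) L), ← mulVec_mulVec, ← mulVec_mulVec, dotProduct_mulVec _ k0ᵀ,
      vecMul_transpose]
    exact congrArg Subtype.val h1.symm
  let K : Big := k0.map L.subtype
  have hKJ : Kᵀ * A * K = e • JJ := by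
    have h1 := congrArg (fun M : Matrix (Fin m ⊕ Fin m) (Fin m ⊕ Fin m) L => M.map L.subtype) hk0J
    simp only [Matrix.map_mul, hA0map, Matrix.mul_smul, Matrix.smul_mul] at h1
    have hJ : (Matrix.J (Fin m) L).map L.subtype = JJ := by
      ext i j
      rcases i with i | i <;> rcases j with j | j <;> by_cases hh : i = j <;> simp [Matrix.J, hh]
    rw [hJ] at h1
    rw [← h1, smul_smul, mul_inv_cancel₀ hab, one_smul, transpose_map]
  have hKu : IsUnit K := by
    rw [Matrix.isUnit_iff_isUnit_det]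
    refine isUnit_iff_ne_zero.2 fun h0 => ?_
    have h1 := congrArg Matrix.det hKJ
    rw [det_mul, h0, mul_zero, det_smul] at h1
    rcases mul_eq_zero.1 h1.symm with h2 | h2
    · exact pow_ne_zero _ hab h2
    · have := congrArg Matrix.det (Matrix.J_squared (Fin m) F)
      rw [det_mul, h2, zero_mul, det_neg, det_one, mul_one] at this
      exact pow_ne_zero _ (neg_ne_zero.2 one_ne_zero) this.symm
  set h' : GLB := h * hKu.unit with hh'def
  have hmem : h' ∈ GS := (gsp_iff h').2 ⟨Units.mk0 e hab, by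
    rw [hh'def, Units.val_mul, IsUnit.unit_spec, transpose_mul]
    calc Kᵀ * (h : Big)ᵀ * JJ * ((h : Big) * K) = Kᵀ * A * K := by rw [hA]; simp only [Matrix.mul_assoc]
      _ = _ := hKJ⟩
  refine ⟨⟨h', hmem⟩, gs_ext ?_⟩
  rw [coe_gs_mul, coe_gspAut, coe_glm]
  show ((g : GLB) : Big) * ((h : Big) * (hKu.unit : Big)).map σ = (h : Big) * (hKu.unit : Big)
  rw [IsUnit.unit_spec, Matrix.map_mul, ← Matrix.mul_assoc, hh']
  congr 1
  ext i j
  exact (k0 i j).2

theorem field_case (hm : 2 ≤ m) {σ : F ≃+* F} (hσ : σ ≠ 1) {r : ℕ} (hr : r.Prime)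
    (hφ : (fieldS σ : MulAut Pm) ^ r = 1) {g : GS} (hg : ((conjS g : MulAut Pm) * fieldS σ) ^ r = 1) :
    ∃ h : GS, (conjS g : MulAut Pm) * fieldS σ = conjS h * fieldS σ * (conjS h)⁻¹ := by
  have hσr : σ ^ r = 1 :=
    (conjS_fieldS_eq_one hm (g := 1) (by rw [map_one, one_mul, map_pow, hφ])).2
  have : Fact r.Prime := ⟨hr⟩
  have hord : orderOf σ = r := orderOf_eq_prime hσr hσ
  rw [mul_twist_pow conjS (gspAut σ) (fieldS σ) (fieldS_conjS σ), hφ, mul_one] at hg
  obtain ⟨⟨l, hl⟩, -⟩ := conjS_fieldS_eq_one hm (g := tnorm (gspAut σ) g r) (σ := 1) (by rw [hg, map_one, one_mul])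
  have haut : ∀ k : ℕ, ∀ y : GS, ((gspAut σ : MulAut GS) ^ k) y = gspAut (σ ^ k) y := by
    intro k
    induction k with
    | zero => intro y; exact gs_ext (by ext i j; rfl)
    | succ k ih =>
      intro y
      rw [pow_succ', MulAut.mul_apply, ih, pow_succ']
      exact gs_ext (by ext i j; rfl)
  have hfix : σ (l : F) = l := by
    have h1 : g * gspAut σ (tnorm (gspAut σ) g r) = tnorm (gspAut σ) g r * ((gspAut σ : MulAut GS) ^ r) g :=
      tnorm_succ' (gspAut σ) g r
    rw [hl, gspAut_scal, haut, hσr, show gspAut (1 : F ≃+* F) g = g from gs_ext (by ext i j; rfl), ← scal_comm,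
      mul_left_inj] at h1
    exact congrArg Units.val (scal_injective (by omega) h1)
  obtain ⟨a, ha⟩ := exists_pow_norm hord hr.pos (x := (l : F)⁻¹) (by rw [map_inv₀, hfix])
  have ha0 : a ≠ 0 := by
    rintro rfl
    exact inv_ne_zero l.ne_zero (ha.symm.trans (Finset.prod_eq_zero (Finset.mem_range.2 hr.pos) (map_zero _)))
  have hN : tnorm (gspAut σ) (scal (Units.mk0 a ha0) * g) r = 1 := by
    rw [tnorm_scal_mul, hl, ← scal_mul, show (∏ i ∈ Finset.range r, Units.map (σ ^ i).toRingHom.toMonoidHom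
      (Units.mk0 a ha0)) * l = 1 from Units.ext ?_, scal_one]
    rw [Units.val_mul, Units.coe_prod, Units.val_one]
    rw [show ∏ i ∈ Finset.range r, ((Units.map (σ ^ i).toRingHom.toMonoidHom (Units.mk0 a ha0) : Fˣ) : F) =
      ∏ i ∈ Finset.range r, (σ ^ i) a from rfl, ha, inv_mul_cancel₀ l.ne_zero]
  obtain ⟨h, hh⟩ := hilbert90_gsp (by omega) hord hr.pos _ hN
  refine ⟨h, ?_⟩
  rw [mul_assoc (conjS h), ← map_inv, fieldS_conjS, ← mul_assoc, ← map_mul, map_inv (gspAut σ),
    show h * (gspAut σ h)⁻¹ = scal (Units.mk0 a ha0) * g from mul_inv_eq_iff_eq_mul.2 hh.symm, map_mul, conjS_scal,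
    one_mul]

theorem coset_conj (hm : 2 ≤ m) (x δ : MulAut Pm) (hx : Cfsg.IsFieldAutClassPSp x) {r : ℕ} (hr : r.Prime)
    (hxr : orderOf x = r) (hδ : δ ∈ Cfsg.inndiagPSp m F) :
    orderOf (δ * x) = r ↔ Cfsg.IsConjUnder (Cfsg.inndiagPSp m F) x (δ * x) := by
  constructor
  · intro h
    have hx1 : x ^ r = 1 := hxr ▸ pow_orderOf_eq_one x
    have hd1 : (δ * x) ^ r = 1 := h ▸ pow_orderOf_eq_one (δ * x)
    obtain ⟨α, σ, hσ, hstd⟩ := hx
    have hφ := eq_fieldS hstd
    obtain ⟨g, hg⟩ : α * δ * α⁻¹ ∈ (conjS : GS →* MulAut Pm).range :=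
      inndiag_eq (F := F) (m := m) ▸ inndiag_normal' hm hδ
    obtain ⟨k, hk⟩ := field_case hm (g := g) (σ := σ) (by exact hσ) hr
      (by rw [← hφ, conj_pow, hx1, mul_one, mul_inv_cancel])
      (by
        rw [hg, ← hφ, show α * δ * α⁻¹ * (α * x * α⁻¹) = α * (δ * x) * α⁻¹ by group, conj_pow, hd1, mul_one,
          mul_inv_cancel])
    refine ⟨α⁻¹ * conjS k * α⁻¹⁻¹, inndiag_normal' hm (inndiag_eq (F := F) (m := m) ▸ ⟨k, rfl⟩), ?_⟩
    rw [hg, ← hφ] at hk
    calc δ * x = α⁻¹ * (α * δ * α⁻¹ * (α * x * α⁻¹)) * α := by group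
      _ = _ := by rw [hk]; group
  · rintro ⟨h, -, e⟩
    rw [e, ← MulAut.conj_apply, MulEquiv.orderOf_eq (MulAut.conj h) x, hxr]

end Cfsg.Lib.Sympl
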