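import Mathlib

/-!
The fundamental theorem of projective geometry for finite fields, for maps given on vectors up to scalars.
-/

set_option autoImplicit false
set_option linter.unusedSectionVars false

namespace Cfsg.Lib.Sympl

open Matrix

variable {F : Type*} [Field F] [Finite F] {ι : Type*} [Fintype ι] [DecidableEq ι]

/-- A map of vectors inducing an injective line preserving map of points. -/
structure IsCollin (f : (ι → F) → (ι → F)) : Prop where
  ne_zero : ∀ x, x ≠ 0 → f x ≠ 0
  smul : ∀ (c : F) (x : ι → F), c ≠ 0 → x ≠ 0 → f (c • x) ∈ Submodule.span F {f x}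
  inj : ∀ x y, x ≠ 0 → y ≠ 0 → f y ∈ Submodule.span F {f x} → y ∈ Submodule.span F {x}
  line : ∀ x y z, x ≠ 0 → y ≠ 0 → z ≠ 0 → z ∈ Submodule.span F {x, y} → f z ∈ Submodule.span F {f x, f y}

variable {f : (ι → F) → (ι → F)}

/-- The induced map of points is onto. -/
theorem IsCollin.surj (h : IsCollin f) {y : ι → F} (hy : y ≠ 0) :
    ∃ x, x ≠ 0 ∧ y ∈ Submodule.span F {f x} := by
  classical
  let φ : Projectivization F (ι → F) → Projectivization F (ι → F) :=
    Projectivization.lift (fun v => Projectivization.mk F (f v.1) (h.ne_zero _ v.2)) (by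
      rintro ⟨v, hv⟩ ⟨w, hw⟩ t e
      simp only at e
      have ht : t ≠ 0 := by rintro rfl; rw [zero_smul] at e; exact hv e
      obtain ⟨d, hd⟩ := Submodule.mem_span_singleton.1 (h.smul t w ht hw)
      exact (Projectivization.mk_eq_mk_iff' F _ _ _ _).2 ⟨d, hd.trans (congrArg f e.symm)⟩)
  have : Finite (Projectivization F (ι → F)) := Quotient.finite _
  have hinj : Function.Injective φ := by
    intro p q e
    induction p using Projectivization.ind with
    | h v hv =>
      induction q using Projectivization.ind with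
      | h w hw =>
        simp only [φ, Projectivization.lift_mk] at e
        rw [Projectivization.mk_eq_mk_iff'] at e
        obtain ⟨t, ht⟩ := e
        obtain ⟨d, hd⟩ := Submodule.mem_span_singleton.1
          (h.inj w v hw hv (Submodule.mem_span_singleton.2 ⟨t, ht⟩))
        exact (Projectivization.mk_eq_mk_iff' F _ _ _ _).2 ⟨d, hd⟩
  obtain ⟨p, hp⟩ := Finite.surjective_of_injective hinj (Projectivization.mk F y hy)
  induction p using Projectivization.ind with
  | h v hv =>
    simp only [φ, Projectivization.lift_mk] at hp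
    rw [Projectivization.mk_eq_mk_iff'] at hp
    obtain ⟨t, ht⟩ := hp
    refine ⟨v, hv, Submodule.mem_span_singleton.2 ⟨t⁻¹, ?_⟩⟩
    have ht0 : t ≠ 0 := by rintro rfl; rw [zero_smul] at ht; exact h.ne_zero v hv ht.symm
    have hfv : f v = t • y := ht.symm
    rw [hfv, smul_smul, inv_mul_cancel₀ ht0, one_smul]

/-- Images of combinations lie in the span of the images. -/
theorem IsCollin.mem_span (h : IsCollin f) {S : Set (ι → F)} (hS : ∀ s ∈ S, s ≠ 0) {z : ι → F}
    (hz : z ∈ Submodule.span F S) (hz0 : z ≠ 0) : f z ∈ Submodule.span F (f '' S) := by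
  classical
  obtain ⟨t, hts, hzt⟩ := Submodule.mem_span_finite_of_mem_span hz
  refine Submodule.span_mono (Set.image_mono hts) ?_
  have ht0 : ∀ s ∈ t, s ≠ 0 := fun s hs => hS s (hts hs)
  clear hz hts
  induction t using Finset.induction generalizing z with
  | empty =>
    simp only [Finset.coe_empty, Submodule.span_empty, Submodule.mem_bot] at hzt
    exact absurd hzt hz0
  | @insert a t ha ih =>
    rw [Finset.coe_insert, Submodule.mem_span_insert] at hzt
    obtain ⟨c, w, hw, rfl⟩ := hzt
    rw [Finset.coe_insert, Set.image_insert_eq, Submodule.span_insert]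
    rcases eq_or_ne w 0 with rfl | hw0
    · rw [add_zero] at hz0 ⊢
      have hc : c ≠ 0 := fun h0 => hz0 (by rw [h0, zero_smul])
      exact Submodule.mem_sup_left (h.smul c a hc (ht0 a (Finset.mem_insert_self _ _)))
    · have h1 := ih hw0 hw (fun s hs => ht0 s (Finset.mem_insert_of_mem hs))
      have h2 := h.line a w (c • a + w) (ht0 a (Finset.mem_insert_self _ _)) hw0 hz0
        (Submodule.mem_span_pair.2 ⟨c, 1, by rw [one_smul]⟩)
      obtain ⟨u, v, huv⟩ := Submodule.mem_span_pair.1 h2
      rw [← huv]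
      exact add_mem (Submodule.mem_sup_left (Submodule.smul_mem _ _ (Submodule.mem_span_singleton_self _)))
        (Submodule.smul_mem _ _ (Submodule.mem_sup_right h1))

/-- The fundamental theorem. -/
theorem IsCollin.semilinear (h : IsCollin f) (h3 : 3 ≤ Fintype.card ι) :
    ∃ (g : GL ι F) (σ : F ≃+* F), ∀ x, x ≠ 0 → f x ∈ Submodule.span F {(g : Matrix ι ι F) *ᵥ (σ ∘ x)} := by
  classical
  let e : ι → (ι → F) := fun i => Pi.single i 1
  have he : ∀ i, e i ≠ 0 := fun i => Pi.single_ne_zero_iff.2 one_ne_zero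
  have hes : ∀ x : ι → F, x ∈ Submodule.span F (Set.range e) := fun x => by
    rw [show e = ⇑(Pi.basisFun F ι) from funext fun i => (Pi.basisFun_apply F ι i).symm,
      (Pi.basisFun F ι).span_eq]
    trivial
  have htop : Submodule.span F (Set.range (f ∘ e)) = ⊤ := by
    rw [eq_top_iff]
    intro y _
    rcases eq_or_ne y 0 with rfl | hy
    · exact zero_mem _
    obtain ⟨x, hx, hyx⟩ := h.surj hy
    have hfx : f x ∈ Submodule.span F (Set.range (f ∘ e)) := by
      rw [Set.range_comp]
      exact h.mem_span (by rintro _ ⟨i, rfl⟩; exact he i) (hes x) hx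
    obtain ⟨c, rfl⟩ := Submodule.mem_span_singleton.1 hyx
    exact Submodule.smul_mem _ _ hfx
  -- the standard frame
  have hi0 : Nonempty ι := Fintype.card_pos_iff.1 (by omega)
  obtain ⟨o⟩ := hi0
  let b : Module.Basis ι F (ι → F) := basisOfTopLeSpanOfCardEqFinrank (f ∘ e) htop.ge
    (Module.finrank_pi F).symm
  have hb : ∀ i, b i = f (e i) := fun i => by
    show basisOfTopLeSpanOfCardEqFinrank (f ∘ e) htop.ge _ i = _
    rw [coe_basisOfTopLeSpanOfCardEqFinrank]; rfl
  have hsum : ∀ i, i ≠ o → ∃ c : F, c ≠ 0 ∧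
      f (e o + e i) ∈ Submodule.span F {f (e o) + c • f (e i)} := by
    intro i hi
    have hne : e o + e i ≠ 0 := fun h0 => by simpa [e, hi] using congrFun h0 i
    obtain ⟨u, v, huv⟩ := Submodule.mem_span_pair.1 (h.line (e o) (e i) _ (he o) (he i) hne
      (Submodule.mem_span_pair.2 ⟨1, 1, by rw [one_smul, one_smul]⟩))
    have hu : u ≠ 0 := by
      rintro rfl
      rw [zero_smul, zero_add] at huv
      obtain ⟨d, hd⟩ := Submodule.mem_span_singleton.1 (h.inj (e i) _ (he i) hne
        (Submodule.mem_span_singleton.2 ⟨v, huv⟩))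
      exact one_ne_zero (α := F) (by simpa [e, hi.symm] using (congrFun hd o).symm)
    have hv : v ≠ 0 := by
      rintro rfl
      rw [zero_smul, add_zero] at huv
      obtain ⟨d, hd⟩ := Submodule.mem_span_singleton.1 (h.inj (e o) _ (he o) hne
        (Submodule.mem_span_singleton.2 ⟨u, huv⟩))
      exact one_ne_zero (α := F) (by simpa [e, hi] using (congrFun hd i).symm)
    exact ⟨v / u, div_ne_zero hv hu, Submodule.mem_span_singleton.2 ⟨u, by
      rw [smul_add, smul_smul, mul_div_cancel₀ _ hu, huv]⟩⟩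
  choose cc hcc0 hcc using hsum
  let sc : ι → F := fun i => if hi : i = o then 1 else cc i hi
  have hsc : ∀ i, sc i ≠ 0 := fun i => by
    by_cases hi : i = o
    · simp [sc, hi]
    · simpa [sc, hi] using hcc0 i hi
  let b' := b.isUnitSMul fun i => (hsc i).isUnit
  let B : Matrix ι ι F := Matrix.of fun k i => b' i k
  have hBu : IsUnit B := by
    rw [← Matrix.linearIndependent_cols_iff_isUnit]
    exact b'.linearIndependent
  obtain ⟨g, hg⟩ := hBu
  -- the normalised map
  let f' : (ι → F) → (ι → F) := fun x => ((g⁻¹ : GL ι F) : Matrix ι ι F) *ᵥ f x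
  have hgi : ∀ v, (g : Matrix ι ι F) *ᵥ (((g⁻¹ : GL ι F) : Matrix ι ι F) *ᵥ v) = v := fun v => by
    rw [mulVec_mulVec, g.mul_inv, one_mulVec]
  have hig : ∀ v, ((g⁻¹ : GL ι F) : Matrix ι ι F) *ᵥ ((g : Matrix ι ι F) *ᵥ v) = v := fun v => by
    rw [mulVec_mulVec, g.inv_mul, one_mulVec]
  have hge : ∀ i, (g : Matrix ι ι F) *ᵥ e i = sc i • f (e i) := fun i => by
    rw [hg]
    funext k
    simp [B, e, mulVec_single_one, b', Module.Basis.isUnitSMul_apply, hb]
  have h' : IsCollin f' := by
    refine ⟨fun x hx h0 => h.ne_zero x hx ?_, fun c x hc hx => ?_, fun x y hx hy hm => ?_,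
      fun x y z hx hy hz hm => ?_⟩
    · rw [← hgi (f x)]
      show (g : Matrix ι ι F) *ᵥ f' x = 0
      rw [h0, mulVec_zero]
    · obtain ⟨d, hd⟩ := Submodule.mem_span_singleton.1 (h.smul c x hc hx)
      exact Submodule.mem_span_singleton.2 ⟨d, by simp [f', ← hd, mulVec_smul]⟩
    · obtain ⟨d, hd⟩ := Submodule.mem_span_singleton.1 hm
      refine h.inj x y hx hy (Submodule.mem_span_singleton.2 ⟨d, ?_⟩)
      rw [← hgi (f y), show ((g⁻¹ : GL ι F) : Matrix ι ι F) *ᵥ f y = f' y from rfl, ← hd, mulVec_smul, hgi]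
    · obtain ⟨u, v, huv⟩ := Submodule.mem_span_pair.1 (h.line x y z hx hy hz hm)
      exact Submodule.mem_span_pair.2 ⟨u, v, by simp [f', ← huv, mulVec_add, mulVec_smul]⟩
  have he' : ∀ i, f' (e i) ∈ Submodule.span F {e i} := fun i =>
    Submodule.mem_span_singleton.2 ⟨(sc i)⁻¹, by
      show _ = ((g⁻¹ : GL ι F) : Matrix ι ι F) *ᵥ f (e i)
      rw [show f (e i) = (sc i)⁻¹ • ((g : Matrix ι ι F) *ᵥ e i) by
        rw [hge, smul_smul, inv_mul_cancel₀ (hsc i), one_smul], mulVec_smul, hig]⟩
  have he1 : ∀ i, i ≠ o → f' (e o + e i) ∈ Submodule.span F {e o + e i} := by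
    intro i hi
    obtain ⟨d, hd⟩ := Submodule.mem_span_singleton.1 (hcc i hi)
    refine Submodule.mem_span_singleton.2 ⟨d, ?_⟩
    show _ = ((g⁻¹ : GL ι F) : Matrix ι ι F) *ᵥ f (e o + e i)
    rw [← hd, mulVec_smul]
    congr 1
    have h1 : f (e o) + cc i hi • f (e i) = (g : Matrix ι ι F) *ᵥ (e o + e i) := by
      rw [mulVec_add, hge, hge]; simp [sc, hi]
    rw [h1, hig]
  have hsupp : ∀ (P : ι → Prop) (x : ι → F), x ≠ 0 → (∀ i, ¬ P i → x i = 0) → ∀ i, ¬ P i → f' x i = 0 := by
    intro P x hx hxP i hi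
    have hxs : x ∈ Submodule.span F (e '' {j | P j}) := by
      have hx' : x = ∑ j, x j • e j := by
        funext k; simp [e, Finset.sum_apply, Pi.single_apply]
      rw [hx']
      refine Submodule.sum_mem _ fun j _ => ?_
      by_cases hj : P j
      · exact Submodule.smul_mem _ _ (Submodule.subset_span ⟨j, hj, rfl⟩)
      · rw [hxP j hj, zero_smul]; exact zero_mem _
    have hm := h'.mem_span (by rintro _ ⟨j, -, rfl⟩; exact he j) hxs hx
    have hle : Submodule.span F (f' '' (e '' {j | P j})) ≤ LinearMap.ker (LinearMap.proj i) := by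
      rw [Submodule.span_le]
      rintro _ ⟨_, ⟨j, hj, rfl⟩, rfl⟩
      obtain ⟨d, hd⟩ := Submodule.mem_span_singleton.1 (he' j)
      have hij : i ≠ j := fun e => hi (e ▸ hj)
      show f' (e j) i = 0
      rw [← hd]
      simp [e, Pi.single_eq_of_ne hij]
    exact hle hm
  -- the coordinate maps on the affine lines through the base point
  have hd : ∀ i, i ≠ o → ∀ a : F, f' (e o + a • e i) o ≠ 0 := by
    intro i hi a h0
    have hne : e o + a • e i ≠ 0 := fun h1 => by simpa [e, hi.symm] using congrFun h1 o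
    have hk : ∀ k, k ≠ i → f' (e o + a • e i) k = 0 := by
      intro k hk
      by_cases hko : k = o
      · rw [hko]; exact h0
      · refine hsupp (fun j => j = o ∨ j = i) _ hne (fun j hj => ?_) k (by simp [hk, hko])
        obtain ⟨h1, h2⟩ := not_or.1 hj
        simp [e, h1, h2]
    have hm : f' (e o + a • e i) ∈ Submodule.span F {f' (e i)} := by
      obtain ⟨d, hd⟩ := Submodule.mem_span_singleton.1 (he' i)
      have hd0 : d ≠ 0 := by rintro rfl; rw [zero_smul] at hd; exact h'.ne_zero _ (he i) hd.symm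
      refine Submodule.mem_span_singleton.2 ⟨f' (e o + a • e i) i * d⁻¹, ?_⟩
      rw [← hd, smul_smul, mul_assoc, inv_mul_cancel₀ hd0, mul_one]
      funext k
      rcases eq_or_ne k i with rfl | hk'
      · simp [e]
      · simp [e, hk', hk k hk']
    obtain ⟨d, hd⟩ := Submodule.mem_span_singleton.1 (h'.inj _ _ (he i) hne hm)
    simpa [e, hi.symm] using congrFun hd o
  let s : ι → F → F := fun i a => f' (e o + a • e i) i / f' (e o + a • e i) o
  have haff : ∀ (x : ι → F), x o = 1 → f' x o ≠ 0 ∧ ∀ i, i ≠ o → f' x i = f' x o * s i (x i) := by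
    intro x hxo
    have hx0 : x ≠ 0 := fun h1 => by rw [h1] at hxo; exact zero_ne_one hxo
    have hrow : ∀ i, i ≠ o → f' x i = f' x o * s i (x i) := by
      intro i hi
      set p := e o + x i • e i with hp
      have hp0 : p ≠ 0 := fun h1 => by simpa [p, e, hi.symm] using congrFun h1 o
      have hxs : x ∈ Submodule.span F (insert p (e '' {j | j ≠ o ∧ j ≠ i})) := by
        have hx' : x = p + ∑ j ∈ Finset.univ.filter (fun j => j ≠ o ∧ j ≠ i), x j • e j := by
          funext k
          simp only [p, Pi.add_apply, Finset.sum_apply, Pi.smul_apply, e, Pi.single_apply, smul_eq_mul, mul_ite,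
            mul_one, mul_zero, Finset.sum_ite_eq, Finset.mem_filter, Finset.mem_univ, true_and]
          rcases eq_or_ne k o with rfl | h1
          · simp [hxo, hi.symm]
          · rcases eq_or_ne k i with rfl | h2
            · simp [h1]
            · simp [h1, h2]
        rw [hx']
        refine add_mem (Submodule.subset_span (Set.mem_insert _ _)) (Submodule.sum_mem _ fun j hj => ?_)
        exact Submodule.smul_mem _ _ (Submodule.subset_span (Set.mem_insert_of_mem _
          ⟨j, (Finset.mem_filter.1 hj).2, rfl⟩))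
      have hm := h'.mem_span (by
        rintro q (rfl | ⟨j, -, rfl⟩)
        · exact hp0
        · exact he j) hxs hx0
      let L : (ι → F) →ₗ[F] F := (f' p o) • LinearMap.proj i - (f' p i) • LinearMap.proj o
      have hle : Submodule.span F (f' '' insert p (e '' {j | j ≠ o ∧ j ≠ i})) ≤ LinearMap.ker L := by
        rw [Submodule.span_le]
        rintro _ ⟨q, hq, rfl⟩
        show L (f' q) = 0
        simp only [L, LinearMap.sub_apply, LinearMap.smul_apply, LinearMap.proj_apply, smul_eq_mul]
        rcases hq with rfl | ⟨j, ⟨hjo, hji⟩, rfl⟩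
        · ring
        · obtain ⟨d, hd⟩ := Submodule.mem_span_singleton.1 (he' j)
          rw [← hd]
          simp [e, Pi.single_eq_of_ne hjo.symm, Pi.single_eq_of_ne hji.symm]
      have h0 : L (f' x) = 0 := hle hm
      simp only [L, LinearMap.sub_apply, LinearMap.smul_apply, LinearMap.proj_apply, smul_eq_mul] at h0
      show f' x i = f' x o * (f' p i / f' p o)
      have := hd i hi (x i)
      rw [← hp] at this
      field_simp
      linear_combination h0
    refine ⟨fun h0 => h'.ne_zero x hx0 (funext fun k => ?_), hrow⟩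
    rcases eq_or_ne k o with rfl | hk
    · exact h0
    · rw [hrow k hk, h0, zero_mul]; rfl
  have hs1 : ∀ i, i ≠ o → s i 1 = 1 := by
    intro i hi
    obtain ⟨d, hd'⟩ := Submodule.mem_span_singleton.1 (he1 i hi)
    have := hd i hi 1
    show f' (e o + (1 : F) • e i) i / f' (e o + (1 : F) • e i) o = 1
    rw [one_smul] at this ⊢
    rw [← hd'] at this ⊢
    simp [e, hi, hi.symm] at this ⊢
    exact this
  have hs0 : ∀ i, i ≠ o → s i 0 = 0 := by
    intro i hi
    show f' (e o + (0 : F) • e i) i / _ = 0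
    rw [zero_smul, add_zero]
    obtain ⟨d, hd'⟩ := Submodule.mem_span_singleton.1 (he' o)
    rw [← hd']
    simp [e, hi]
  have hsinj : ∀ i, i ≠ o → Function.Injective (s i) := by
    intro i hi a a' hab
    let x : F → (ι → F) := fun a => e o + a • e i
    have hxo : ∀ a, x a o = 1 := fun a => by simp [x, e, hi.symm]
    have hx0 : ∀ a, x a ≠ 0 := fun a h1 => by simpa [x, e, hi.symm] using congrFun h1 o
    have hm : f' (x a) ∈ Submodule.span F {f' (x a')} := by
      obtain ⟨n', r'⟩ := haff (x a') (hxo a')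
      obtain ⟨n, r⟩ := haff (x a) (hxo a)
      refine Submodule.mem_span_singleton.2 ⟨f' (x a) o / f' (x a') o, funext fun k => ?_⟩
      rcases eq_or_ne k o with rfl | hk
      · simp [n']
      · have e1 : s k (x a k) = s k (x a' k) := by
          rcases eq_or_ne k i with rfl | hki
          · simpa [x, e, hk] using hab
          · simp [x, e, hk, hki]
        rw [Pi.smul_apply, r' k hk, r k hk, e1, smul_eq_mul]
        field_simp
    obtain ⟨d, hd⟩ := Submodule.mem_span_singleton.1 (h'.inj _ _ (hx0 a') (hx0 a) hm)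
    have h1 : d = 1 := by simpa [x, e, hi.symm] using congrFun hd o
    subst h1
    have h2 := congrFun hd i
    simpa [x, e, hi] using h2.symm
  have hinf : ∀ (y : ι → F), y ≠ 0 → y o = 0 →
      ∃ l : F, l ≠ 0 ∧ ∀ i, i ≠ o → f' y i = l * s i (y i) := by
    intro y hy hyo
    have hx1 : (e o + y) o = 1 := by simp [e, hyo]
    have hx0 : e o + y ≠ 0 := fun h1 => by rw [h1] at hx1; exact zero_ne_one hx1
    obtain ⟨n, r⟩ := haff (e o + y) hx1
    obtain ⟨u, v, huv⟩ := Submodule.mem_span_pair.1 (h'.line (e o) (e o + y) y (he o) hx0 hy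
      (Submodule.mem_span_pair.2 ⟨-1, 1, by rw [neg_smul, one_smul, one_smul]; abel⟩))
    obtain ⟨d, hd'⟩ := Submodule.mem_span_singleton.1 (he' o)
    have hv : ∀ i, i ≠ o → f' y i = v * f' (e o + y) o * s i (y i) := fun i hi => by
      rw [← huv, ← hd']
      simp only [Pi.add_apply, Pi.smul_apply, r i hi]
      simp [e, hi, mul_assoc]
    refine ⟨v * f' (e o + y) o, mul_ne_zero (fun h0 => ?_) n, hv⟩
    refine h'.ne_zero y hy (funext fun k => ?_)
    rcases eq_or_ne k o with hk | hk
    · rw [hk]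
      exact hsupp (fun j => j ≠ o) y hy (fun j hj => by rw [not_ne_iff.1 hj]; exact hyo) o (by simp)
    · rw [hv k hk, h0, zero_mul, zero_mul]; rfl
  -- a fixed pair of coordinates
  obtain ⟨i1, hi1, i2, hi2, hi12⟩ : ∃ i, i ≠ o ∧ ∃ j, j ≠ o ∧ i ≠ j := by
    have hc : 1 < (Finset.univ.erase o).card := by
      rw [Finset.card_erase_of_mem (Finset.mem_univ _), Finset.card_univ]; omega
    obtain ⟨i, hi, j, hj, hij⟩ := Finset.one_lt_card.1 hc
    exact ⟨i, (Finset.mem_erase.1 hi).1, j, (Finset.mem_erase.1 hj).1, hij⟩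
  have hkey : ∀ i j, i ≠ o → j ≠ o → i ≠ j → ∀ a c : F, c ≠ 0 → s i (c * a) = s j c * s i a := by
    intro i j hi hj hij a c hc
    set y : ι → F := a • e i + e j with hy
    have hy0 : y ≠ 0 := fun h1 => by simpa [y, e, hij.symm] using congrFun h1 j
    have hyo : y o = 0 := by simp [y, e, hi.symm, hj.symm]
    obtain ⟨l, hl, r⟩ := hinf y hy0 hyo
    obtain ⟨l', -, r'⟩ := hinf (c • y) (smul_ne_zero hc hy0) (by simp [hyo])
    obtain ⟨d, hd'⟩ := Submodule.mem_span_singleton.1 (h'.smul c y hc hy0)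
    have ei := congrFun hd' i
    have ej := congrFun hd' j
    rw [Pi.smul_apply, r i hi, r' i hi] at ei
    rw [Pi.smul_apply, r j hj, r' j hj] at ej
    simp [y, e, hij, hij.symm, hs1 j hj] at ei ej
    have hl' : l' ≠ 0 := by
      rintro rfl
      obtain ⟨l'', hl'', r''⟩ := hinf (c • y) (smul_ne_zero hc hy0) (by simp [hyo])
      have h1 := r'' j hj
      rw [r' j hj] at h1
      simp [y, e, hij.symm, hl''] at h1
      exact hc (hsinj j hj (h1.trans (hs0 j hj).symm))
    refine mul_left_cancel₀ hl' ?_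
    linear_combination -ei + (s i a) * ej
  have heq : ∀ i, i ≠ o → ∀ c, s i c = s i1 c := by
    intro i hi c
    rcases eq_or_ne c 0 with rfl | hc
    · rw [hs0 i hi, hs0 i1 hi1]
    rcases eq_or_ne i i1 with rfl | hne
    · rfl
    · have h1 := hkey i i1 hi hi1 hne 1 c hc
      rwa [mul_one, hs1 i hi, mul_one] at h1
  have hmul : ∀ a c, s i1 (a * c) = s i1 a * s i1 c := by
    intro a c
    rcases eq_or_ne c 0 with rfl | hc
    · rw [mul_zero, hs0 i1 hi1, mul_zero]
    · have h1 := hkey i1 i2 hi1 hi2 hi12 a c hc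
      rw [heq i2 hi2] at h1
      rw [mul_comm a c, h1, mul_comm]
  have hadd : ∀ a a', s i1 (a + a') = s i1 a + s i1 a' := by
    intro a a'
    set p : ι → F := e o + a' • e i1 with hp
    set q : ι → F := a • e i1 + e i2 with hq
    set z : ι → F := p + q with hz
    have hpo : p o = 1 := by simp [p, e, hi1.symm]
    have hqo : q o = 0 := by simp [q, e, hi1.symm, hi2.symm]
    have hzo : z o = 1 := by simp [z, hpo, hqo]
    have hp0 : p ≠ 0 := fun h1 => by rw [h1] at hpo; exact zero_ne_one hpo
    have hz0 : z ≠ 0 := fun h1 => by rw [h1] at hzo; exact zero_ne_one hzo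
    have hq0 : q ≠ 0 := fun h1 => by simpa [q, e, hi12.symm] using congrFun h1 i2
    obtain ⟨np, rp⟩ := haff p hpo
    obtain ⟨nz, rz⟩ := haff z hzo
    obtain ⟨l, hl, rq⟩ := hinf q hq0 hqo
    have hqo' : f' q o = 0 :=
      hsupp (fun j => j ≠ o) q hq0 (fun j hj => by rw [not_ne_iff.1 hj]; exact hqo) o (by simp)
    obtain ⟨u, v, huv⟩ := Submodule.mem_span_pair.1 (h'.line p q z hp0 hq0 hz0
      (Submodule.mem_span_pair.2 ⟨1, 1, by rw [one_smul, one_smul]⟩))
    have eo := congrFun huv o
    have e1 := congrFun huv i1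
    have e2 := congrFun huv i2
    rw [Pi.add_apply, Pi.smul_apply, Pi.smul_apply, hqo', smul_zero, add_zero, smul_eq_mul] at eo
    rw [Pi.add_apply, Pi.smul_apply, Pi.smul_apply, rp _ hi1, rq _ hi1, rz _ hi1] at e1
    rw [Pi.add_apply, Pi.smul_apply, Pi.smul_apply, rp _ hi2, rq _ hi2, rz _ hi2] at e2
    simp [p, q, z, e, hi1, hi2, hi12, hi12.symm, hs0 _ hi2, hs1 _ hi2] at e1 e2 eo
    rw [add_comm a a']
    refine mul_left_cancel₀ nz ?_
    linear_combination -e1 + (s i1 a') * eo + (s i1 a) * e2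
  let σ : F ≃+* F := RingEquiv.ofBijective
    ({ toFun := s i1, map_one' := hs1 i1 hi1, map_mul' := hmul, map_zero' := hs0 i1 hi1, map_add' := hadd } :
      F →+* F) (Finite.injective_iff_bijective.1 (hsinj i1 hi1))
  have hσ : ∀ a, σ a = s i1 a := fun a => rfl
  refine ⟨g, σ, fun x hx => ?_⟩
  have hx' : f' x ∈ Submodule.span F {σ ∘ x} := by
    rcases eq_or_ne (x o) 0 with hxo | hxo
    · obtain ⟨l, -, r⟩ := hinf x hx hxo
      refine Submodule.mem_span_singleton.2 ⟨l, funext fun k => ?_⟩
      rcases eq_or_ne k o with hk | hk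
      · rw [hk, hsupp (fun j => j ≠ o) x hx (fun j hj => by rw [not_ne_iff.1 hj]; exact hxo) o (by simp)]
        simp [hxo]
      · simp [r k hk, hσ, heq k hk]
    · obtain ⟨d, hd'⟩ := Submodule.mem_span_singleton.1
        (h'.smul (x o) ((x o)⁻¹ • x) hxo (smul_ne_zero (inv_ne_zero hxo) hx))
      rw [smul_smul, mul_inv_cancel₀ hxo, one_smul] at hd'
      obtain ⟨n, r⟩ := haff ((x o)⁻¹ • x) (by simp [hxo])
      refine Submodule.mem_span_singleton.2 ⟨d * f' ((x o)⁻¹ • x) o / σ (x o), funext fun k => ?_⟩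
      have hσ0 : σ (x o) ≠ 0 := (map_ne_zero σ).2 hxo
      rw [← hd', Pi.smul_apply, Pi.smul_apply, Function.comp_apply, smul_eq_mul, smul_eq_mul]
      rcases eq_or_ne k o with rfl | hk
      · field_simp
      · rw [r k hk, heq k hk, ← hσ, Pi.smul_apply, smul_eq_mul, map_mul, map_inv₀]
        field_simp
  obtain ⟨d, hd'⟩ := Submodule.mem_span_singleton.1 hx'
  refine Submodule.mem_span_singleton.2 ⟨d, ?_⟩
  have h1 := hgi (f x)
  rw [← mulVec_smul, hd']
  exact h1

end Cfsg.Lib.Sympl
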