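import Cfsg.Agent.Known.Sympl.Basic
import Cfsg.Agent.Known.Sympl.Collineation

/-!
In odd characteristic every automorphism of `PSp (2m, q)` is a semilinear similitude.

The transvection groups are the centres of the Sylow subgroups of the defining characteristic.
-/

set_option autoImplicit false
set_option linter.unusedSectionVars false

namespace Cfsg.Lib.Sympl

open Matrix Cfsg.Lib.Classical Cfsg.Lib.Fusion.PSp Cfsg.Lib.Known.AutPSLn

variable {F : Type*} [Field F] [Fintype F] {m : ℕ}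

local notation "Vec" => (Fin m ⊕ Fin m → F)
local notation "Mat" => Matrix (Fin m) (Fin m) F
local notation "Big" => Matrix (Fin m ⊕ Fin m) (Fin m ⊕ Fin m) F
local notation "GLB" => GL (Fin m ⊕ Fin m) F
local notation "Spm" => Matrix.symplecticGroup (Fin m) F
local notation "Pm" => Cfsg.PSp m F
local notation "π'" => QuotientGroup.mk' (Subgroup.center (Matrix.symplecticGroup (Fin m) F))
local notation "JJ" => Matrix.J (Fin m) F
local notation "Bf" => sympBilin m F

/-- The centre of a subgroup. -/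
def zc {G : Type*} [Group G] (S : Subgroup G) : Subgroup G := S ⊓ Subgroup.centralizer (S : Set G)

theorem zc_map {G H : Type*} [Group G] [Group H] (e : G ≃* H) (S : Subgroup G) :
    zc (S.map e.toMonoidHom) = (zc S).map e.toMonoidHom := by
  ext y
  constructor
  · rintro ⟨⟨x, hx, rfl⟩, hc⟩
    refine ⟨x, ⟨hx, fun s hs => e.injective ?_⟩, rfl⟩
    rw [map_mul, map_mul]
    exact hc _ ⟨s, hs, rfl⟩
  · rintro ⟨x, ⟨hx, hc⟩, rfl⟩
    refine ⟨⟨x, hx, rfl⟩, ?_⟩
    rintro _ ⟨s, hs, rfl⟩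
    show e s * e x = e x * e s
    rw [← map_mul, ← map_mul, hc s hs]

/-- The first basis vector. -/
def e0 (F : Type*) [Field F] {m : ℕ} (hm : 1 ≤ m) : Fin m ⊕ Fin m → F := Pi.single (Sum.inl ⟨0, hm⟩) 1

theorem e0_ne (hm : 1 ≤ m) : e0 F hm ≠ 0 := Pi.single_ne_zero_iff.2 one_ne_zero

theorem tv_eq_tr (hm : 1 ≤ m) (c : F) :
    tv (e0 F hm) c = tr (Matrix.single (⟨0, hm⟩ : Fin m) ⟨0, hm⟩ c) (single_diag_mem _ c) := by
  refine sp_ext fun x => ?_
  rw [tv_mulVec, coe_tr]
  have hB : Bf x (e0 F hm) = x (Sum.inr ⟨0, hm⟩) := by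
    rw [sympBilin_eq_sum, Finset.sum_eq_single (⟨0, hm⟩ : Fin m)]
    · simp [e0]
    · intro j _ hj; simp [e0, hj]
    · simp
  rw [hB]
  funext i
  rcases i with i | i
  · simp only [Pi.add_apply, Pi.smul_apply, mulVec, dotProduct, Fintype.sum_sum_type, fromBlocks_apply₁₁,
      fromBlocks_apply₁₂, smul_eq_mul, Matrix.one_apply, ite_mul, one_mul, zero_mul, Finset.sum_ite_eq,
      Finset.mem_univ, if_true]
    congr 1
    rcases eq_or_ne i (⟨0, hm⟩ : Fin m) with rfl | hi
    · simp [e0, Matrix.single_apply]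
    · simp [e0, Matrix.single_apply, hi, Ne.symm hi]
  · simp [e0, mulVec, dotProduct, Fintype.sum_sum_type, Matrix.one_apply]

theorem tv_mem_sylU (hm : 1 ≤ m) (c : F) : tv (e0 F hm) c ∈ sylU F m := by
  rw [tv_eq_tr]; exact tr_mem _ _

/-- The centre of the standard unipotent subgroup. -/
theorem center_sylU (hm : 2 ≤ m) (h2 : (2 : F) ≠ 0) {z : Spm} (hz : z ∈ sylU F m)
    (hc : ∀ u ∈ sylU F m, z * u = u * z) : ∃ c : F, z = tv (e0 F (m := m) (by omega)) c := by
  obtain ⟨X, hX, rfl⟩ := mem_siegel.1 (siegel_centralizer hz fun r hr => hc r (siegel_le hr))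
  have hent : ∀ i j : Fin m, i < j → ∀ a b : Fin m,
      ((1 + Matrix.single i j (1 : F)) * X * (1 + Matrix.single j i (1 : F))) a b = X a b := by
    intro i j hij a b
    let M : Matrix.SpecialLinearGroup (Fin m) F := Matrix.SpecialLinearGroup.transvection hij.ne 1
    have h1 : leviSL M * tr X hX * (leviSL M)⁻¹ = tr X hX := by
      rw [mul_inv_eq_iff_eq_mul, hc _ (leviSL_mem (upperUni_transvection hij 1))]
    rw [leviSL, MonoidHom.comp_apply, levi_conj_tr] at h1
    have h4 := congrArg (fun g : Spm => (g : Big).toBlocks₁₂) h1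
    simp only [coe_tr, toBlocks_fromBlocks₁₂] at h4
    have hM : (M : Mat) = 1 + Matrix.single i j (1 : F) := rfl
    have hT : (1 + Matrix.single i j (1 : F))ᵀ = 1 + Matrix.single j i (1 : F) := by
      rw [transpose_add, transpose_one, transpose_single]
    rw [← congrFun (congrFun h4 a) b]
    show _ = ((M : Mat) * X * (M : Mat)ᵀ) a b
    rw [hM, hT]
  have hexp : ∀ i j a b : Fin m, ((1 + Matrix.single i j (1 : F)) * X * (1 + Matrix.single j i (1 : F))) a b =
      X a b + (if a = i then X j b else 0) + (if b = i then X a j + (if a = i then X j j else 0) else 0) := by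
    intro i j a b
    simp only [add_mul, mul_add, one_mul, mul_one, Matrix.add_apply]
    have e1 : (Matrix.single i j (1 : F) * X) a b = if a = i then X j b else 0 := by
      rcases eq_or_ne a i with rfl | h <;> simp [*]
    have e2 : ∀ Y : Mat, (Y * Matrix.single j i (1 : F)) a b = if b = i then Y a j else 0 := fun Y => by
      rcases eq_or_ne b i with rfl | h <;> simp [*]
    have e3 : (Matrix.single i j (1 : F) * X) a j = if a = i then X j j else 0 := by
      rcases eq_or_ne a i with rfl | h <;> simp [*]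
    rw [e1, e2, e2, e3]
    split_ifs <;> ring
  let o : Fin m := ⟨0, by omega⟩
  have hsym : ∀ a b, X a b = X b a := fun a b => congrFun (congrFun hX b) a
  have hpos : ∀ j : Fin m, j ≠ o → o < j := fun j hj => by
    refine lt_of_le_of_ne ?_ (Ne.symm hj)
    exact Nat.zero_le _
  have hcol : ∀ j : Fin m, j ≠ o → ∀ a, a ≠ o → X a j = 0 := by
    intro j hj a ha
    have h := hent o j (hpos j hj) a o
    rw [hexp] at h
    simpa [ha] using h
  have hrow : ∀ j : Fin m, j ≠ o → X o j = 0 := by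
    intro j hj
    have h := hent o j (hpos j hj) o o
    rw [hexp] at h
    simp [hcol j hj j hj, hsym j o] at h
    have h3 : 2 * X o j = 0 := by linear_combination h
    exact (mul_eq_zero.1 h3).resolve_left h2
  refine ⟨X o o, ?_⟩
  rw [tv_eq_tr]
  refine tr_congr ?_ _ _
  ext a b
  show X a b = Matrix.single o o (X o o) a b
  rcases eq_or_ne a o with rfl | ha
  · rcases eq_or_ne b o with rfl | hb
    · simp
    · simp [hrow b hb, Matrix.single_apply, Ne.symm hb]
  · rcases eq_or_ne b o with rfl | hb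
    · rw [hsym, hrow a ha]; simp [Matrix.single_apply, Ne.symm ha]
    · rw [hcol b hb a ha]; simp [Matrix.single_apply, Ne.symm ha]

variable (p : ℕ) [Fact p.Prime] [CharP F p]

include p in
theorem zc_image (hm : 2 ≤ m) (h2 : (2 : F) ≠ 0) :
    zc ((sylU F m).map π') = R (e0 F (m := m) (by omega)) := by
  ext x
  constructor
  · rintro ⟨⟨z, hz, rfl⟩, hc⟩
    obtain ⟨c, rfl⟩ := center_sylU hm h2 hz fun u hu => by
      have h := hc _ ⟨u, hu, rfl⟩
      exact (eq_of_mk_eq p (by omega) (mul_mem hu hz) (mul_mem hz hu) (by rw [map_mul, map_mul]; exact h)).symm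
    exact mem_R.2 ⟨c, rfl⟩
  · intro hx
    obtain ⟨a, rfl⟩ := mem_R.1 hx
    refine ⟨⟨_, tv_mem_sylU _ a, rfl⟩, ?_⟩
    rintro _ ⟨u, hu, rfl⟩
    show π' u * π' (tv _ a) = π' (tv _ a) * π' u
    rw [← map_mul, ← map_mul]
    refine congrArg π' ?_
    rw [← mul_inv_eq_iff_eq_mul, tv_conj]
    congr 1
    funext i
    rw [e0, mulVec_single_one, ← fix_of_mem_sylU (F := F) (m := m) (by omega) hu]
    exact (congrFun (mulVec_single_one _ _) i).symm

include p in
/-- Automorphisms permute the transvection groups. -/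
theorem R_map_aut (hm : 2 ≤ m) (h2 : (2 : F) ≠ 0) (α : MulAut Pm) {v : Vec} (hv : v ≠ 0) :
    ∃ w : Vec, w ≠ 0 ∧ (R v).map α.toMonoidHom = R w := by
  obtain ⟨Q, hQ⟩ := exists_sylow (F := F) (m := m) p
  let P : Sylow p Pm := Q.mapSurjective (f := π') (QuotientGroup.mk'_surjective _)
  have hP : (P : Subgroup Pm) = (sylU F m).map π' := by
    rw [← hQ]; rfl
  let P' : Sylow p Pm := P.mapSurjective (f := α.toMonoidHom) α.surjective
  obtain ⟨y, hy⟩ := MulAction.exists_smul_eq Pm P P'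
  have hy' : (P : Subgroup Pm).map (MulAut.conj y).toMonoidHom = (P : Subgroup Pm).map α.toMonoidHom := by
    have := congrArg (fun S : Sylow p Pm => (S : Subgroup Pm)) hy
    simp only [Sylow.coe_subgroup_smul] at this
    exact this
  obtain ⟨g, rfl⟩ := QuotientGroup.mk'_surjective _ y
  have he : (R (e0 F (m := m) (by omega))).map α.toMonoidHom = R ((g : Big) *ᵥ e0 F (by omega)) := by
    rw [← R_map_conj, ← zc_image p hm h2, ← hP, ← zc_map α, ← zc_map (MulAut.conj (π' g)), hy']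
  obtain ⟨h, hh⟩ := transitive (F := F) (m := m) (e0_ne (by omega)) hv
  obtain ⟨h', hh'⟩ := QuotientGroup.mk'_surjective (Subgroup.center Spm) (α (π' h))
  refine ⟨(h' : Big) *ᵥ ((g : Big) *ᵥ e0 F (by omega)), fun h0 => e0_ne (F := F) (m := m) (by omega) ?_, ?_⟩
  · rw [← sp_inv_mulVec g (e0 F (by omega)), ← sp_inv_mulVec h' ((g : Big) *ᵥ e0 F (by omega)), h0, mulVec_zero,
      mulVec_zero]
  · rw [← R_map_conj h', ← he, ← hh, ← R_map_conj h, Subgroup.map_map, Subgroup.map_map]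
    congr 1
    refine MonoidHom.ext fun z => ?_
    show α (π' h * z * (π' h)⁻¹) = π' h' * α z * (π' h')⁻¹
    rw [hh', map_mul, map_mul, map_inv]

theorem gsp_of_perp (hm : 1 ≤ m) {g : GLB}
    (h : ∀ u v : Vec, Bf u v = 0 → Bf ((g : Big) *ᵥ u) ((g : Big) *ᵥ v) = 0) : g ∈ Cfsg.GSp m F := by
  set A : Big := (g : Big)ᵀ * JJ * (g : Big) with hA
  have hz : ∀ u v : Vec, u ⬝ᵥ (JJ *ᵥ v) = 0 → u ⬝ᵥ (A *ᵥ v) = 0 := by
    intro u v huv
    rw [hA, ← form_mul]
    exact h u v (by rw [sympBilin_apply]; exact huv)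
  have hzs : ∀ a b : Fin m ⊕ Fin m, JJ a b = 0 → A a b = 0 := fun a b hab => by
    simpa using hz (Pi.single a 1) (Pi.single b 1) (by simpa using hab)
  let o : Fin m := ⟨0, hm⟩
  set c : F := A (Sum.inr o) (Sum.inl o) with hc
  have hd : ∀ i : Fin m, A (Sum.inr i) (Sum.inl i) = c ∧ A (Sum.inl i) (Sum.inr i) = -c := by
    have key : ∀ i j : Fin m, i ≠ j →
        A (Sum.inr i) (Sum.inl i) = A (Sum.inr j) (Sum.inl j) ∧
          A (Sum.inr i) (Sum.inl i) + A (Sum.inl j) (Sum.inr j) = 0 := by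
      intro i j hij
      constructor
      · have := hz (Pi.single (Sum.inr i) 1 + Pi.single (Sum.inr j) 1)
          (Pi.single (Sum.inl i) 1 - Pi.single (Sum.inl j) 1)
          (by simp [mulVec_sub, Matrix.J, hij, hij.symm])
        simp [mulVec_sub, hzs (Sum.inr i) (Sum.inl j) (by simp [Matrix.J, hij]),
          hzs (Sum.inr j) (Sum.inl i) (by simp [Matrix.J, hij.symm])] at this
        linear_combination this
      · have := hz (Pi.single (Sum.inr i) 1 + Pi.single (Sum.inl j) 1)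
          (Pi.single (Sum.inl i) 1 + Pi.single (Sum.inr j) 1)
          (by simp [mulVec_add, Matrix.J, hij, hij.symm])
        simp [mulVec_add, hzs (Sum.inr i) (Sum.inr j) (by simp [Matrix.J]),
          hzs (Sum.inl j) (Sum.inl i) (by simp [Matrix.J])] at this
        linear_combination this
    intro i
    have hskew : ∀ j : Fin m, A (Sum.inr j) (Sum.inl j) + A (Sum.inl j) (Sum.inr j) = 0 := fun j => by
      have := hz (Pi.single (Sum.inr j) 1 + Pi.single (Sum.inl j) 1)
        (Pi.single (Sum.inr j) 1 + Pi.single (Sum.inl j) 1) (by simp [mulVec_add, Matrix.J])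
      simp [mulVec_add, hzs (Sum.inr j) (Sum.inr j) (by simp [Matrix.J]),
        hzs (Sum.inl j) (Sum.inl j) (by simp [Matrix.J])] at this
      linear_combination this
    rcases eq_or_ne i o with rfl | hi
    · exact ⟨rfl, by linear_combination hskew o⟩
    · exact ⟨(key i o hi).1, by linear_combination hskew i - (key i o hi).1⟩
  have hAJ : A = c • JJ := by
    ext a b
    rw [Matrix.smul_apply]
    rcases a with i | i <;> rcases b with j | j
    · rw [hzs _ _ (by simp [Matrix.J])]; simp [Matrix.J]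
    · rcases eq_or_ne i j with rfl | hij
      · rw [(hd i).2]; simp [Matrix.J]
      · rw [hzs _ _ (by simp [Matrix.J, hij])]; simp [Matrix.J, hij]
    · rcases eq_or_ne i j with rfl | hij
      · rw [(hd i).1]; simp [Matrix.J]
      · rw [hzs _ _ (by simp [Matrix.J, hij])]; simp [Matrix.J, hij]
    · rw [hzs _ _ (by simp [Matrix.J])]; simp [Matrix.J]
  have hc0 : c ≠ 0 := by
    intro h0
    rw [h0, zero_smul] at hAJ
    have : JJ = 0 := by
      calc JJ = ((g⁻¹ : GLB) : Big)ᵀ * A * ((g⁻¹ : GLB) : Big) := by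
            rw [hA]
            simp only [← Matrix.mul_assoc, ← transpose_mul, Units.mul_inv, transpose_one, Matrix.one_mul]
            rw [Matrix.mul_assoc, Units.mul_inv, Matrix.mul_one]
        _ = 0 := by rw [hAJ, Matrix.mul_zero, Matrix.zero_mul]
    have h1 := congrFun (congrFun this (Sum.inr o)) (Sum.inl o)
    rw [J_entry] at h1
    exact one_ne_zero h1
  exact (gsp_iff g).2 ⟨Units.mk0 c hc0, hAJ⟩

theorem sigma_form (σ : F ≃+* F) (u v : Vec) : σ (Bf u v) = Bf (σ ∘ u) (σ ∘ v) := by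
  rw [sympBilin_eq_sum, sympBilin_eq_sum, map_sum]
  simp

theorem tv_semi (g : Cfsg.GSp m F) (σ : F ≃+* F) (v : Vec) :
    ((R v).map (conjS g * fieldS σ).toMonoidHom) = R (((g : GLB) : Big) *ᵥ (σ ∘ v)) := by
  obtain ⟨c, hc⟩ := (gsp_iff (g : GLB)).1 g.2
  have key : ∀ a : F, conjSp g (fieldSp σ (tv v a)) =
      tv (((g : GLB) : Big) *ᵥ (σ ∘ v)) (σ a / (c : F)) := by
    intro a
    refine sp_ext fun x => ?_
    rw [coe_conjSp, coe_fieldSp, tv_mulVec, ← mulVec_mulVec, ← mulVec_mulVec]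
    set y := (((g : GLB)⁻¹ : GLB) : Big) *ᵥ x with hy
    have hx : x = ((g : GLB) : Big) *ᵥ y := by rw [hy, mulVec_mulVec, Units.mul_inv, one_mulVec]
    have hmap : ((tv v a : Spm) : Big).map σ *ᵥ y = y + (σ a * Bf y (σ ∘ v)) • (σ ∘ v) := by
      have e1 : ((tv v a : Spm) : Big).map σ *ᵥ y = σ ∘ (((tv v a : Spm) : Big) *ᵥ (σ.symm ∘ y)) := by
        funext i
        simp [mulVec, dotProduct, map_sum]
      have e2 : σ (Bf (σ.symm ∘ y) v) = Bf y (σ ∘ v) := by
        rw [sigma_form]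
        congr 2
        funext i; simp
      rw [e1, tv_mulVec]
      funext i
      simp [e2]
    rw [hmap, mulVec_add, mulVec_smul, hx, form_mul, hc, smul_mulVec, dotProduct_smul, ← sympBilin_apply,
      smul_eq_mul]
    congr 2
    field_simp
  ext z
  rw [Subgroup.mem_map, mem_R]
  constructor
  · rintro ⟨x, hx, rfl⟩
    obtain ⟨a, rfl⟩ := mem_R.1 hx
    exact ⟨σ a / (c : F), congrArg π' (key a).symm⟩
  · rintro ⟨a, rfl⟩
    refine ⟨_, mem_R.2 ⟨σ.symm (a * (c : F)), rfl⟩, ?_⟩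
    show conjS g (fieldS σ (π' _)) = _
    rw [fieldS_apply, conjS_apply, key, RingEquiv.apply_symm_apply, mul_div_cancel_right₀ _ c.ne_zero]

theorem eq_one_of_fix (hm : 2 ≤ m) {γ : MulAut Pm} (h : ∀ v : Vec, v ≠ 0 → (R v).map γ.toMonoidHom = R v) : γ = 1 := by
  refine MulEquiv.ext fun x => ?_
  obtain ⟨s, rfl⟩ := QuotientGroup.mk'_surjective _ x
  obtain ⟨t, ht⟩ := QuotientGroup.mk'_surjective (Subgroup.center Spm) (γ (π' s))
  have hp : ∀ v : Vec, v ≠ 0 → (t : Big) *ᵥ v ∈ Submodule.span F {(s : Big) *ᵥ v} := by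
    intro v hv
    have hne : (t : Big) *ᵥ v ≠ 0 := fun h0 => hv (by rw [← sp_inv_mulVec t v, h0, mulVec_zero])
    refine eq_of_R hm hne (le_of_eq ?_)
    have hsne : (s : Big) *ᵥ v ≠ 0 := fun h0 => hv (by rw [← sp_inv_mulVec s v, h0, mulVec_zero])
    conv_rhs => rw [← h _ hsne, ← R_map_conj]
    rw [← R_map_conj]
    conv_lhs => rw [← h v hv]
    rw [Subgroup.map_map, Subgroup.map_map]
    congr 1
    refine MonoidHom.ext fun z => ?_
    show π' t * γ z * (π' t)⁻¹ = γ (π' s * z * (π' s)⁻¹)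
    rw [map_mul, map_mul, map_inv, ht]
  show γ (π' s) = π' s
  rw [← ht]
  have hz : s⁻¹ * t ∈ Subgroup.center Spm := by
    have hpres : ∀ v : Vec, v ≠ 0 → ∃ c : F, ((s⁻¹ * t : Spm) : Big) *ᵥ v = c • v := by
      intro v hv
      obtain ⟨c, hc⟩ := Submodule.mem_span_singleton.1 (hp v hv)
      exact ⟨c, by rw [Submonoid.coe_mul, ← mulVec_mulVec, ← hc, mulVec_smul, sp_inv_mulVec]⟩
    rw [Subgroup.mem_center_iff]
    intro u
    refine sp_ext fun v => ?_
    rcases eq_or_ne v 0 with rfl | hv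
    · rw [mulVec_zero, mulVec_zero]
    generalize s⁻¹ * t = z at hpres ⊢
    obtain ⟨c, hc⟩ := hpres v hv
    have huv : (u : Big) *ᵥ v ≠ 0 := fun h0 => hv (by rw [← sp_inv_mulVec u v, h0, mulVec_zero])
    obtain ⟨d, hd⟩ := hpres _ huv
    rw [Submonoid.coe_mul, Submonoid.coe_mul, ← mulVec_mulVec, ← mulVec_mulVec, hc, hd, mulVec_smul]
    by_cases hli : (u : Big) *ᵥ v ∈ Submodule.span F {v}
    · obtain ⟨a, ha⟩ := Submodule.mem_span_singleton.1 hli
      have := hd
      rw [← ha, mulVec_smul, hc, smul_comm] at this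
      rw [← ha]
      exact this
    · have hsum : v + (u : Big) *ᵥ v ≠ 0 := fun h0 => hli (Submodule.mem_span_singleton.2 ⟨-1, by
        rw [neg_smul, one_smul]; exact (eq_neg_of_add_eq_zero_right h0).symm⟩)
      obtain ⟨e, he⟩ := hpres _ hsum
      rw [mulVec_add, hc, hd, smul_add] at he
      have h1 : (c - e) • v + (d - e) • ((u : Big) *ᵥ v) = 0 := by
        rw [sub_smul, sub_smul]
        linear_combination (norm := module) he
      have hde : d - e = 0 := by
        by_contra hne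
        refine hli (Submodule.mem_span_singleton.2 ⟨-((c - e) / (d - e)), ?_⟩)
        rw [neg_smul, div_eq_inv_mul, mul_smul, eq_neg_of_add_eq_zero_left h1, smul_neg, neg_neg, smul_smul,
          inv_mul_cancel₀ hne, one_smul]
      rw [hde, zero_smul, add_zero] at h1
      rw [sub_eq_zero.1 ((smul_eq_zero.1 h1).resolve_right hv), sub_eq_zero.1 hde]
  exact ((QuotientGroup.mk'_eq_mk' _).2 ⟨s⁻¹ * t, hz, mul_inv_cancel_left s t⟩).symm

/-- An automorphism that permutes the transvection groups, with its inverse, is a semilinear similitude. -/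
theorem exists_decomp_of_R' (hm : 2 ≤ m) (α : MulAut Pm)
    (hR : ∀ {v : Vec}, v ≠ 0 → ∃ w : Vec, w ≠ 0 ∧ (R v).map α.toMonoidHom = R w)
    (hR' : ∀ {v : Vec}, v ≠ 0 → ∃ w : Vec, w ≠ 0 ∧ (R v).map (α⁻¹ : MulAut Pm).toMonoidHom = R w) :
    ∃ (g : Cfsg.GSp m F) (σ : F ≃+* F), α = conjS g * fieldS σ := by
  classical
  have hex : ∀ v : Vec, ∃ w : Vec, v ≠ 0 → (w ≠ 0 ∧ (R v).map α.toMonoidHom = R w) := fun v => by
    by_cases hv : v = 0
    · exact ⟨0, fun h => absurd hv h⟩
    · obtain ⟨w, hw⟩ := hR hv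
      exact ⟨w, fun _ => hw⟩
  choose f hf using hex
  have hinjm : Function.Injective (fun S : Subgroup Pm => S.map α.toMonoidHom) :=
    Subgroup.map_injective α.injective
  have hperp : ∀ x y : Vec, x ≠ 0 → y ≠ 0 → (Bf x y = 0 ↔ Bf (f x) (f y) = 0) := by
    intro x y hx hy
    rw [← R_commute_iff hm hx, ← R_commute_iff hm (hf x hx).1, ← (hf x hx).2, ← (hf y hy).2]
    constructor
    · rintro h _ ⟨a, ha, rfl⟩ _ ⟨b, hb, rfl⟩
      exact (h a ha b hb).map α
    · intro h a ha b hb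
      refine α.injective ?_
      rw [map_mul, map_mul]
      exact h _ ⟨a, ha, rfl⟩ _ ⟨b, hb, rfl⟩
  have hwd : ∀ (c : F) (x : Vec), c ≠ 0 → x ≠ 0 → f (c • x) ∈ Submodule.span F {f x} := fun c x hc hx =>
    eq_of_R hm (hf _ (smul_ne_zero hc hx)).1 (by
      rw [← (hf _ (smul_ne_zero hc hx)).2, R_smul x hc, (hf x hx).2])
  have hinj : ∀ x y : Vec, x ≠ 0 → y ≠ 0 → f y ∈ Submodule.span F {f x} → y ∈ Submodule.span F {x} := by
    intro x y hx hy hm'
    obtain ⟨c, hc⟩ := Submodule.mem_span_singleton.1 hm'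
    have hc0 : c ≠ 0 := by rintro rfl; rw [zero_smul] at hc; exact (hf y hy).1 hc.symm
    refine eq_of_R hm hy (le_of_eq (hinjm ?_))
    show (R y).map α.toMonoidHom = (R x).map α.toMonoidHom
    rw [(hf y hy).2, (hf x hx).2, ← hc, R_smul _ hc0]
  -- surjectivity on points
  have hsurj : ∀ w : Vec, w ≠ 0 → ∃ u, u ≠ 0 ∧ w ∈ Submodule.span F {f u} := by
    intro w hw
    obtain ⟨u, hu, e⟩ := hR' hw
    refine ⟨u, hu, eq_of_R hm hw ?_⟩
    rw [← (hf u hu).2, ← e, Subgroup.map_map]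
    intro z hz
    exact ⟨z, hz, α.apply_symm_apply z⟩
  have hcol : IsCollin f := by
    refine ⟨fun x hx => (hf x hx).1, hwd, hinj, fun x y z hx hy hz hm' => ?_⟩
    have hrefl : (Bf).IsRefl := (sympBilin_isAlt m F).isRefl
    have hdd := LinearMap.BilinForm.orthogonal_orthogonal (sympBilin_nondegenerate m F) hrefl
      (Submodule.span F {f x, f y})
    rw [← hdd, LinearMap.BilinForm.mem_orthogonal_iff]
    intro w hw
    rw [LinearMap.BilinForm.mem_orthogonal_iff] at hw
    show Bf w (f z) = 0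
    rcases eq_or_ne w 0 with rfl | hw0
    · rw [map_zero, LinearMap.zero_apply]
    obtain ⟨u, hu, huw⟩ := hsurj w hw0
    obtain ⟨c, rfl⟩ := Submodule.mem_span_singleton.1 huw
    have hc : c ≠ 0 := fun h0 => hw0 (by rw [h0, zero_smul])
    have h1 : ∀ s : Vec, s ≠ 0 → f s ∈ ({f x, f y} : Set Vec) → Bf u s = 0 := fun s hs hm'' => by
      have h3 : Bf (f s) (c • f u) = 0 := hw _ (Submodule.subset_span hm'')
      rw [map_smul, smul_eq_mul, mul_eq_zero] at h3
      exact hrefl _ _ ((hperp s u hs hu).2 (h3.resolve_left hc))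
    have h4 : Bf u z = 0 := by
      obtain ⟨a, b, rfl⟩ := Submodule.mem_span_pair.1 hm'
      rw [map_add, map_smul, map_smul, h1 x hx (Set.mem_insert _ _), h1 y hy (Set.mem_insert_of_mem _ rfl),
        smul_zero, smul_zero, add_zero]
    rw [map_smul, LinearMap.smul_apply, (hperp u z hu hz).1 h4, smul_zero]
  obtain ⟨g, σ, hg⟩ := hcol.semilinear (by simp; omega)
  have hgm : g ∈ Cfsg.GSp m F := by
    refine gsp_of_perp (by omega) fun u v huv => ?_
    rcases eq_or_ne u 0 with rfl | hu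
    · rw [mulVec_zero, map_zero, LinearMap.zero_apply]
    rcases eq_or_ne v 0 with rfl | hv
    · rw [mulVec_zero, map_zero]
    have hu' : (σ.symm ∘ u : Vec) ≠ 0 := fun h0 => hu (funext fun i => by
      have := congrFun h0 i
      simpa using this)
    have hv' : (σ.symm ∘ v : Vec) ≠ 0 := fun h0 => hv (funext fun i => by
      have := congrFun h0 i
      simpa using this)
    have h0 : Bf (σ.symm ∘ u) (σ.symm ∘ v) = 0 := by rw [← sigma_form, huv, map_zero]
    obtain ⟨a, ha⟩ := Submodule.mem_span_singleton.1 (hg _ hu')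
    obtain ⟨b, hb⟩ := Submodule.mem_span_singleton.1 (hg _ hv')
    have h3 := (hperp _ _ hu' hv').1 h0
    have ha0 : a ≠ 0 := by rintro rfl; rw [zero_smul] at ha; exact (hf _ hu').1 ha.symm
    have hb0 : b ≠ 0 := by rintro rfl; rw [zero_smul] at hb; exact (hf _ hv').1 hb.symm
    have eu : σ ∘ (σ.symm ∘ u) = u := funext fun i => σ.apply_symm_apply _
    have ev : σ ∘ (σ.symm ∘ v) = v := funext fun i => σ.apply_symm_apply _
    rw [← ha, ← hb, eu, ev] at h3
    simpa [ha0, hb0] using h3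
  refine ⟨⟨g, hgm⟩, σ, ?_⟩
  have h1 : (conjS (⟨g, hgm⟩ : Cfsg.GSp m F) * fieldS σ)⁻¹ * α = 1 := by
    refine eq_one_of_fix hm fun v hv => ?_
    obtain ⟨a, ha⟩ := Submodule.mem_span_singleton.1 (hg v hv)
    have ha0 : a ≠ 0 := by rintro rfl; rw [zero_smul] at ha; exact (hf v hv).1 ha.symm
    have e : (R v).map (conjS (⟨g, hgm⟩ : Cfsg.GSp m F) * fieldS σ).toMonoidHom = (R v).map α.toMonoidHom := by
      rw [tv_semi, (hf v hv).2, ← ha, R_smul _ ha0]
    set β := conjS (⟨g, hgm⟩ : Cfsg.GSp m F) * fieldS σ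
    ext z
    constructor
    · rintro ⟨x, hx, rfl⟩
      obtain ⟨x', hx', e'⟩ : α x ∈ (R v).map β.toMonoidHom := e ▸ ⟨x, hx, rfl⟩
      show β⁻¹ (α x) ∈ R v
      rw [← e']
      exact (β.symm_apply_apply x').symm ▸ hx'
    · intro hz
      obtain ⟨x, hx, e'⟩ : β z ∈ (R v).map α.toMonoidHom := e ▸ ⟨z, hz, rfl⟩
      refine ⟨x, hx, ?_⟩
      show β⁻¹ (α x) = z
      rw [show α x = β z from e']
      exact β.symm_apply_apply z
  exact (inv_mul_eq_one.1 h1).symm

/-- If automorphisms permute the transvection groups they are semilinear similitudes. -/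
theorem exists_decomp_of_R (hm : 2 ≤ m)
    (hR : ∀ (α : MulAut Pm) {v : Vec}, v ≠ 0 → ∃ w : Vec, w ≠ 0 ∧ (R v).map α.toMonoidHom = R w) (α : MulAut Pm) :
    ∃ (g : Cfsg.GSp m F) (σ : F ≃+* F), α = conjS g * fieldS σ :=
  exists_decomp_of_R' hm α (fun hv => hR α hv) fun hv => hR α⁻¹ hv

include p in
/-- Every automorphism is a semilinear similitude. -/
theorem exists_decomp_aut (hm : 2 ≤ m) (h2 : (2 : F) ≠ 0) (α : MulAut Pm) :
    ∃ (g : Cfsg.GSp m F) (σ : F ≃+* F), α = conjS g * fieldS σ :=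
  exists_decomp_of_R hm (fun β _ hv => R_map_aut p hm h2 β hv) α

include p in
theorem gamma_eq_top (hm : 2 ≤ m) (h2 : (2 : F) ≠ 0) : Cfsg.gammaPSp m F = ⊤ := by
  rw [eq_top_iff]
  rintro α -
  obtain ⟨g, σ, rfl⟩ := exists_decomp_aut p hm h2 α
  exact Subgroup.subset_closure ⟨(g : GLB), σ, g.2, induced_iff.2 rfl⟩

end Cfsg.Lib.Sympl
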