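import Cfsg.Agent.Known.Sympl.TwoRank
import Cfsg.Agent.Known.Sympl.Field
import Cfsg.Prelude.Def_KGroupFacts

/-!
The exceptional endomorphism of `Sp (4, 2^f)` by the minors on a quotient of the exterior square, and the outer
automorphism group of `PSp (4, 2^f)`.
-/

set_option autoImplicit false
set_option linter.unusedSectionVars false

namespace Cfsg.Lib.Sympl

open Matrix Cfsg.Lib.Classical

variable {F : Type*} [Field F] [Fintype F] [CharP F 2]

local notation "Idx" => Fin 2 ⊕ Fin 2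
local notation "Vec" => (Fin 2 ⊕ Fin 2 → F)
local notation "Big" => Matrix (Fin 2 ⊕ Fin 2) (Fin 2 ⊕ Fin 2) F
local notation "Spm" => Matrix.symplecticGroup (Fin 2) F
local notation "Pm" => Cfsg.PSp 2 F
local notation "π'" => QuotientGroup.mk' (Subgroup.center (Matrix.symplecticGroup (Fin 2) F))
local notation "Bf" => sympBilin 2 F

/-- First index of a coordinate of the quotient of the exterior square. -/
def pa : Fin 2 ⊕ Fin 2 → Fin 2 ⊕ Fin 2 := Sum.elim ![Sum.inl 0, Sum.inl 0] ![Sum.inr 0, Sum.inr 0]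

/-- Second index of a coordinate of the quotient of the exterior square. -/
def pb : Fin 2 ⊕ Fin 2 → Fin 2 ⊕ Fin 2 := Sum.elim ![Sum.inl 1, Sum.inr 1] ![Sum.inr 1, Sum.inl 1]

/-- The image of a decomposable vector. -/
def wdg (x y : Vec) : Vec := fun i => x (pa i) * y (pb i) + x (pb i) * y (pa i)

theorem wdg_comm (x y : Vec) : wdg x y = wdg y x := funext fun i => by simp only [wdg]; ring

theorem form_four (x y : Vec) :
    Bf x y = x (Sum.inl 0) * y (Sum.inr 0) + x (Sum.inr 0) * y (Sum.inl 0) + x (Sum.inl 1) * y (Sum.inr 1) +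
      x (Sum.inr 1) * y (Sum.inl 1) := by
  rw [sympBilin_eq_sum, Fin.sum_univ_two]
  simp only [CharTwo.sub_eq_add]
  ring

theorem wdg_form {x y z w : Vec} (h1 : Bf x y = 0) (h2 : Bf z w = 0) :
    Bf (wdg x y) (wdg z w) = Bf x z * Bf y w + Bf x w * Bf y z := by
  rw [form_four] at h1 h2 ⊢
  simp only [form_four, wdg, pa, pb, Sum.elim_inl, Sum.elim_inr, Matrix.cons_val_zero, Matrix.cons_val_one]
  linear_combination (norm := (ring_nf; simp [CharTwo.two_eq_zero]))
    (x (Sum.inl 0) * y (Sum.inr 0) + x (Sum.inr 0) * y (Sum.inl 0)) * h2 +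
      (z (Sum.inl 1) * w (Sum.inr 1) + z (Sum.inr 1) * w (Sum.inl 1)) * h1

theorem wdg_wdg {x y z : Vec} (h1 : Bf x y = 0) (h2 : Bf x z = 0) (i : Idx) :
    wdg (wdg x y) (wdg x z) i = x i ^ 2 * Bf y z := by
  rw [form_four] at h1 h2 ⊢
  rcases i with i | i <;> fin_cases i <;>
    simp only [wdg, pa, pb, Sum.elim_inl, Sum.elim_inr, Fin.zero_eta, Fin.mk_one, Matrix.cons_val_zero,
      Matrix.cons_val_one]
  · linear_combination (norm := (ring_nf; simp [CharTwo.two_eq_zero]))
      (x (Sum.inl 0) * y (Sum.inl 0)) * h2 + (x (Sum.inl 0) * z (Sum.inl 0)) * h1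
  · linear_combination (norm := (ring_nf; simp [CharTwo.two_eq_zero]))
      (x (Sum.inl 1) * y (Sum.inl 1)) * h2 + (x (Sum.inl 1) * z (Sum.inl 1)) * h1
  · linear_combination (norm := (ring_nf; simp [CharTwo.two_eq_zero]))
      (x (Sum.inr 0) * y (Sum.inr 0)) * h2 + (x (Sum.inr 0) * z (Sum.inr 0)) * h1
  · linear_combination (norm := (ring_nf; simp [CharTwo.two_eq_zero]))
      (x (Sum.inr 1) * y (Sum.inr 1)) * h2 + (x (Sum.inr 1) * z (Sum.inr 1)) * h1

/-- A column of a symplectic matrix. -/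
def col' (g : Spm) (j : Idx) : Vec := fun i => (g : Big) i j

/-- The matrix of minors. -/
def gmat (g : Spm) : Big := Matrix.of fun i j => wdg (col' g (pa j)) (col' g (pb j)) i

theorem form_col (g : Spm) (i j : Idx) : Bf (col' g i) (col' g j) = Bf (Pi.single i 1) (Pi.single j 1) := by
  rw [← sp_form g (Pi.single i 1) (Pi.single j 1), mulVec_single_one, mulVec_single_one]
  rfl

theorem row_rel (g : Spm) (a b : Idx) (hab : Bf (Pi.single a (1 : F)) (Pi.single b 1) = 0) :
    (g : Big) a (Sum.inl 0) * (g : Big) b (Sum.inr 0) + (g : Big) a (Sum.inr 0) * (g : Big) b (Sum.inl 0) +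
      (g : Big) a (Sum.inl 1) * (g : Big) b (Sum.inr 1) + (g : Big) a (Sum.inr 1) * (g : Big) b (Sum.inl 1) = 0 := by
  have h := congrFun (congrFun (SymplecticGroup.mem_iff.1 g.2) a) b
  have hJ : Matrix.J (Fin 2) F a b = 0 := by
    rw [sympBilin_apply] at hab
    simpa using hab
  rw [hJ] at h
  simp [Matrix.mul_apply, Fintype.sum_sum_type, Fin.sum_univ_two, Matrix.J, Matrix.one_apply, CharTwo.neg_eq] at h
  linear_combination h

theorem mulVec_wdg (g : Spm) {x y : Vec} (h : Bf x y = 0) :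
    wdg ((g : Big) *ᵥ x) ((g : Big) *ᵥ y) = gmat g *ᵥ wdg x y := by
  funext i
  have hrel := row_rel g (pa i) (pb i) (by
    rcases i with i | i <;> fin_cases i <;> simp [form_four, pa, pb])
  rw [form_four] at h
  simp only [wdg, gmat, col', mulVec, dotProduct, Fintype.sum_sum_type, Fin.sum_univ_two, Matrix.of_apply]
  simp only [show pa (Sum.inl (0 : Fin 2)) = Sum.inl 0 from rfl, show pa (Sum.inl (1 : Fin 2)) = Sum.inl 0 from rfl,
    show pa (Sum.inr (0 : Fin 2)) = Sum.inr 0 from rfl, show pa (Sum.inr (1 : Fin 2)) = Sum.inr 0 from rfl,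
    show pb (Sum.inl (0 : Fin 2)) = Sum.inl 1 from rfl, show pb (Sum.inl (1 : Fin 2)) = Sum.inr 1 from rfl,
    show pb (Sum.inr (0 : Fin 2)) = Sum.inr 1 from rfl, show pb (Sum.inr (1 : Fin 2)) = Sum.inl 1 from rfl]
  generalize pa i = a at hrel ⊢
  generalize pb i = b at hrel ⊢
  linear_combination (norm := (ring_nf; simp [CharTwo.two_eq_zero]))
    (x (Sum.inl 0) * y (Sum.inr 0) + x (Sum.inr 0) * y (Sum.inl 0)) * hrel +
      ((g : Big) a (Sum.inl 1) * (g : Big) b (Sum.inr 1) + (g : Big) a (Sum.inr 1) * (g : Big) b (Sum.inl 1)) * h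

theorem form_pair (j : Idx) : Bf (Pi.single (pa j) (1 : F)) (Pi.single (pb j) 1) = 0 := by
  rcases j with j | j <;> fin_cases j <;> simp [form_four, pa, pb]

theorem gmat_mem (g : Spm) : gmat g ∈ Matrix.symplecticGroup (Fin 2) F := by
  rw [mem_sp_iff]
  refine ext_form _ _ fun u v => ?_
  suffices h : ∀ i j : Idx, ((gmat g)ᵀ * Matrix.J (Fin 2) F * gmat g) i j = Matrix.J (Fin 2) F i j by
    rw [Matrix.ext h]
  intro i j
  have e : ((gmat g)ᵀ * Matrix.J (Fin 2) F * gmat g) i j =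
      Bf (wdg (col' g (pa i)) (col' g (pb i))) (wdg (col' g (pa j)) (col' g (pb j))) := by
    have h1 : ∀ k, gmat g *ᵥ (Pi.single k 1 : Vec) = wdg (col' g (pa k)) (col' g (pb k)) := fun k => by
      rw [mulVec_single_one]; rfl
    rw [← h1, ← h1, form_mul]
    simp
  rw [e, wdg_form (by rw [form_col]; exact form_pair i) (by rw [form_col]; exact form_pair j), form_col, form_col,
    form_col, form_col]
  rcases i with i | i <;> fin_cases i <;> rcases j with j | j <;> fin_cases j <;>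
    simp [form_four, pa, pb, Matrix.J, Matrix.one_apply, CharTwo.neg_eq]

/-- The endomorphism. -/
noncomputable def gHom : Spm →* Spm :=
  MonoidHom.mk' (fun g => ⟨gmat g, gmat_mem g⟩) fun g h => Subtype.ext (mat_ext fun x => by
    show gmat (g * h) *ᵥ x = (gmat g * gmat h) *ᵥ x
    congr 1
    ext i j
    have e1 : ∀ k, col' (g * h) k = (g : Big) *ᵥ col' h k := fun k => funext fun i => rfl
    show wdg (col' (g * h) (pa j)) (col' (g * h) (pb j)) i = _
    rw [e1, e1, mulVec_wdg g (by rw [form_col]; exact form_pair j)]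
    rfl)

theorem gHom_sq (g : Spm) : ((gHom (gHom g) : Spm) : Big) = (g : Big).map (fun t => t ^ 2) := by
  ext i j
  show wdg (wdg (col' g (pa (pa j))) (col' g (pb (pa j)))) (wdg (col' g (pa (pb j))) (col' g (pb (pb j)))) i = _
  have hz : ∀ a b : Idx, Bf (Pi.single a (1 : F)) (Pi.single b 1) = 0 → Bf (col' g a) (col' g b) = 0 :=
    fun a b h => by rw [form_col, h]
  rw [Matrix.map_apply]
  rcases j with j | j <;> fin_cases j <;>
    simp only [pa, pb, Sum.elim_inl, Sum.elim_inr, Fin.zero_eta, Fin.mk_one, Matrix.cons_val_zero,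
      Matrix.cons_val_one]
  · rw [wdg_wdg (hz _ _ (by simp [form_four])) (hz _ _ (by simp [form_four])), form_col]
    simp [form_four, col']
  · rw [wdg_comm (col' g (Sum.inl 0)) (col' g (Sum.inl 1)), wdg_comm (col' g (Sum.inr 0)) (col' g (Sum.inl 1)),
      wdg_wdg (hz _ _ (by simp [form_four])) (hz _ _ (by simp [form_four])), form_col]
    simp [form_four, col']
  · rw [wdg_wdg (hz _ _ (by simp [form_four])) (hz _ _ (by simp [form_four])), form_col]
    simp [form_four, col']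
  · rw [wdg_comm (col' g (Sum.inr 0)) (col' g (Sum.inr 1)), wdg_comm (col' g (Sum.inl 0)) (col' g (Sum.inr 1)),
      wdg_wdg (hz _ _ (by simp [form_four])) (hz _ _ (by simp [form_four])), form_col]
    simp [form_four, col']

theorem gHom_tv (a : F) : gHom (tv (el (0 : Fin 2)) a) = zab 0 a := by
  have hg : ∀ j, col' (tv (el (0 : Fin 2)) a) j =
      (Pi.single j 1 : Vec) + (a * (Pi.single j 1 : Vec) (Sum.inr 0)) • el 0 := fun j => by
    rw [← B_el (Pi.single j (1 : F) : Vec) (0 : Fin 2), ← tv_mulVec, mulVec_single_one]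
    rfl
  refine Subtype.ext ?_
  rw [zab_coe]
  ext i j
  show wdg (col' _ (pa j)) (col' _ (pb j)) i = _
  rw [hg, hg]
  rcases j with j | j <;> fin_cases j <;> rcases i with i | i <;> fin_cases i <;>
    simp [wdg, pa, pb, el, Matrix.one_apply]

theorem gHom_injective : Function.Injective (gHom (F := F)) := fun g h e => by
  have h2 : (g : Big).map (fun t => t ^ 2) = (h : Big).map (fun t => t ^ 2) := by
    rw [← gHom_sq, ← gHom_sq, e]
  refine Subtype.ext (Matrix.map_injective ?_ h2)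
  intro x y (hxy : x ^ 2 = y ^ 2)
  exact CharTwo.sq_injective hxy

/-- The duality of `PSp (4, 2^f)`. -/
noncomputable def dualS : MulAut Pm :=
  liftP (MulEquiv.ofBijective gHom ⟨gHom_injective, Finite.injective_iff_surjective.1 gHom_injective⟩)

theorem dualS_apply (s : Spm) : dualS (π' s) = π' (gHom s) := rfl

theorem dualS_sq {σ : F ≃+* F} (hσ : ∀ x, σ x = x ^ 2) : (dualS : MulAut Pm) * dualS = fieldS σ := by
  refine MulEquiv.ext fun x => QuotientGroup.induction_on x fun s => ?_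
  show dualS (dualS (π' s)) = fieldS σ (π' s)
  rw [dualS_apply, dualS_apply, fieldS_apply]
  refine congrArg π' (Subtype.ext ?_)
  rw [gHom_sq, coe_fieldSp]
  ext i j
  exact (hσ _).symm

theorem semi_long (g : Cfsg.GSp 2 F) (σ : F ≃+* F) {x : Pm} (hx : IsLong x) :
    IsLong ((conjS g * fieldS σ : MulAut Pm) x) := by
  rcases long_dichotomy (conjS g * fieldS σ : MulAut Pm) with ⟨h, -⟩ | ⟨h, -⟩
  · exact h x hx
  · exfalso
    obtain ⟨v, c, hv, hc, rfl⟩ := hx
    have hmem : (conjS g * fieldS σ : MulAut Pm) (π' (tv v c)) ∈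
        R (((g : GL Idx F) : Big) *ᵥ (σ ∘ v)) := by
      rw [← tv_semi]
      exact ⟨_, mem_R.2 ⟨c, rfl⟩, rfl⟩
    obtain ⟨d, hd⟩ := mem_R.1 hmem
    have hs := h _ ⟨v, c, hv, hc, rfl⟩
    refine not_long_short ⟨_, d, fun h0 => hv (funext fun i => ?_), fun h0 => ?_, hd.symm⟩ hs
    · have h1 := mulVec_injective_iff_isUnit.2 (Units.isUnit (g : GL Idx F)) (h0.trans (mulVec_zero _).symm)
      exact σ.injective ((congrFun h1 i).trans (map_zero σ).symm)
    · rw [h0, tv_zero, map_one] at hd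
      obtain ⟨k, b, hb, e⟩ := hs
      rw [← hd] at e
      have e2 := conj_eq_one_iff.1 (π_injective (F := F) (m := 2) (by omega) (e.symm.trans (map_one π').symm))
      have h5 := congrFun (congrFun (congrArg (fun z : Spm => (z : Big)) e2) (Sum.inl 0)) (Sum.inr 1)
      simp [zab_coe] at h5
      exact hb h5

theorem dual_short : IsShort (dualS (π' (tv (el (0 : Fin 2)) (1 : F)))) := by
  rw [dualS_apply, gHom_tv]
  exact ⟨1, 1, one_ne_zero, by rw [one_mul, inv_one, mul_one]⟩

theorem decomp_dual (α : MulAut Pm) : ∃ (g : Cfsg.GSp 2 F) (σ : F ≃+* F),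
    α = conjS g * fieldS σ ∨ α = dualS * (conjS g * fieldS σ) := by
  have hx : IsLong (π' (tv (el (0 : Fin 2)) (1 : F))) :=
    ⟨_, 1, Pi.single_ne_zero_iff.2 one_ne_zero, one_ne_zero, rfl⟩
  rcases long_dichotomy α with ⟨h, hR⟩ | ⟨h, -⟩
  · obtain ⟨g, σ, e⟩ := exists_decomp_of_R' le_rfl α hR fun hv => by
      rcases long_dichotomy α⁻¹ with ⟨-, h'⟩ | ⟨h', -⟩
      · exact h' hv
      · exfalso
        have := h' _ (h _ hx)
        rw [MulAut.inv_apply_self] at this
        exact not_long_short hx this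
    exact ⟨g, σ, Or.inl e⟩
  · have hd : ∀ y, IsShort y → ∃ z, IsLong z ∧ (dualS : MulAut Pm) z = y := by
      rcases long_dichotomy (dualS : MulAut Pm) with ⟨h', -⟩ | ⟨-, h'⟩
      · exact absurd dual_short (not_long_short (h' _ hx))
      · exact h'
    obtain ⟨z, hz, hzx⟩ := hd _ (h _ hx)
    set β : MulAut Pm := dualS⁻¹ * α
    have hβ : IsLong (β (π' (tv (el (0 : Fin 2)) (1 : F)))) := by
      show IsLong (dualS⁻¹ (α _))
      rw [← hzx, MulAut.inv_apply_self]; exact hz
    obtain ⟨g, σ, e⟩ := exists_decomp_of_R' le_rfl β (fun hv => R_map_of_long hx hβ hv) fun hv =>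
      R_map_of_long (α := β⁻¹) hβ (by rw [MulAut.inv_apply_self]; exact hx) hv
    exact ⟨g, σ, Or.inr (by rw [← e, mul_inv_cancel_left])⟩

theorem out_psp_four {f : ℕ} (hf : 1 ≤ f) (hF : Fintype.card F = 2 ^ f) :
    IsCyclic (Cfsg.Out Pm) ∧ Nat.card (Cfsg.Out Pm) = 2 * f := by
  classical
  have : Fact (Nat.Prime 2) := ⟨Nat.prime_two⟩
  have h2 : (2 : F) = 0 := CharTwo.two_eq_zero
  haveI : Finite (F ≃+* F) := Finite.of_injective (fun e => (e : F → F)) DFunLike.coe_injective
  let φ : F ≃+* F := frobeniusEquiv F 2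
  have hφ : ∀ x, φ x = x ^ 2 := fun x => rfl
  have hpow : ∀ (j : ℕ) x, (φ ^ j) x = x ^ 2 ^ j := by
    intro j
    induction j with
    | zero => intro x; simp
    | succ j ih =>
      intro x
      rw [pow_succ', RingAut.mul_apply, ih, hφ, ← pow_mul, pow_succ]
  obtain ⟨hcyc, hcard⟩ := Known.FieldLight.ringAut_facts (F := F) 2 f hF
  have hgen : ∀ σ : F ≃+* F, ∃ j : ℕ, σ = φ ^ j := by
    have hord : orderOf φ = f := by
      refine le_antisymm (Nat.le_of_dvd hf (hcard ▸ orderOf_dvd_natCard φ)) ?_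
      by_contra hlt
      push Not at hlt
      obtain ⟨u, hu⟩ := IsCyclic.exists_generator (α := Fˣ)
      have h1 : φ ^ orderOf φ = 1 := pow_orderOf_eq_one φ
      have h3 : (u : F) ^ 2 ^ orderOf φ = u := by rw [← hpow, h1]; rfl
      have h4 : u ^ (2 ^ orderOf φ - 1) = 1 := Units.ext (by
        rw [Units.val_pow_eq_pow_val, Units.val_one]
        refine mul_right_cancel₀ u.ne_zero ?_
        rw [← pow_succ, Nat.sub_add_cancel Nat.one_le_two_pow, h3, one_mul])
      have h5 := orderOf_dvd_of_pow_eq_one h4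
      rw [orderOf_eq_card_of_forall_mem_zpowers hu, Nat.card_units, Nat.card_eq_fintype_card, hF] at h5
      have hj : 1 ≤ orderOf φ := orderOf_pos φ
      have h6 : 2 ^ orderOf φ < 2 ^ f := Nat.pow_lt_pow_right (by norm_num) hlt
      have h7 : 2 ≤ 2 ^ orderOf φ := Nat.le_self_pow (by omega) 2
      have := Nat.le_of_dvd (by omega) h5
      omega
    intro σ
    have htop : Subgroup.zpowers φ = ⊤ := Subgroup.eq_top_of_card_eq _ (by rw [Nat.card_zpowers, hord, hcard])
    obtain ⟨j, hj⟩ := (isOfFinOrder_of_finite φ).mem_powers_iff_mem_zpowers.2 (htop ▸ Subgroup.mem_top σ)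
    exact ⟨j, hj.symm⟩
  set q : MulAut Pm →* Cfsg.Out Pm := QuotientGroup.mk' _
  have hsq : q dualS ^ 2 = q (fieldS φ) := by rw [← map_pow, pow_two, dualS_sq hφ]
  have hconj : ∀ g : Cfsg.GSp 2 F, q (conjS g) = 1 := fun g => by
    refine (QuotientGroup.eq_one_iff _).2 ?_
    rw [← inndiag_eq_inn (by omega) h2, inndiag_eq]
    exact ⟨g, rfl⟩
  have hfield : ∀ σ : F ≃+* F, ∃ j : ℕ, q (fieldS σ) = q dualS ^ (2 * j) := fun σ => by
    obtain ⟨j, rfl⟩ := hgen σ
    exact ⟨j, by rw [map_pow, map_pow, pow_mul, hsq]⟩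
  have hall : ∀ o : Cfsg.Out Pm, o ∈ Subgroup.zpowers (q dualS) := fun o => by
    obtain ⟨α, rfl⟩ := QuotientGroup.mk'_surjective _ o
    obtain ⟨g, σ, e | e⟩ := decomp_dual α <;> obtain ⟨j, hj⟩ := hfield σ
    · show q α ∈ _
      rw [e, map_mul, hconj, one_mul, hj]
      exact pow_mem (Subgroup.mem_zpowers _) _
    · show q α ∈ _
      rw [e, map_mul, map_mul, hconj, one_mul, hj]
      exact mul_mem (Subgroup.mem_zpowers _) (pow_mem (Subgroup.mem_zpowers _) _)
  have hinn : ∀ β : MulAut Pm, q β = 1 → ∃ g : Cfsg.GSp 2 F, β = conjS g := fun β h => by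
    obtain ⟨s, rfl⟩ := (inn_iff β).1 ((QuotientGroup.eq_one_iff _).1 h)
    exact ⟨_, rfl⟩
  have hord : orderOf (q dualS) = 2 * f := by
    have hx : IsLong (π' (tv (el (0 : Fin 2)) (1 : F))) :=
      ⟨_, 1, Pi.single_ne_zero_iff.2 one_ne_zero, one_ne_zero, rfl⟩
    refine (orderOf_eq_iff (by omega)).2 ⟨?_, fun k hk hk0 h => ?_⟩
    · rw [pow_mul, hsq, ← map_pow, ← map_pow, show φ ^ f = 1 from hcard ▸ pow_card_eq_one', map_one, map_one]
    rw [← map_pow] at h
    obtain ⟨g, hg⟩ := hinn _ h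
    rcases Nat.even_or_odd k with ⟨j, rfl⟩ | ⟨j, rfl⟩
    · rw [← two_mul, pow_mul, pow_two, dualS_sq hφ, ← map_pow] at hg
      obtain ⟨-, h1⟩ := conjS_fieldS_eq_one le_rfl (g := g⁻¹) (σ := φ ^ j)
        (by rw [hg, map_inv, inv_mul_cancel])
      have h2' : orderOf φ ∣ j := orderOf_dvd_of_pow_eq_one h1
      have hordφ : orderOf φ = f := by
        refine (orderOf_eq_card_of_forall_mem_zpowers fun σ => ?_).trans hcard
        obtain ⟨i, rfl⟩ := hgen σ
        exact pow_mem (Subgroup.mem_zpowers _) i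
      rw [hordφ] at h2'
      have := Nat.le_of_dvd (by omega) h2'
      omega
    · rw [pow_succ', pow_mul, pow_two, dualS_sq hφ, ← map_pow, ← eq_mul_inv_iff_mul_eq, ← map_inv] at hg
      refine not_long_short ?_ (dual_short (F := F))
      rw [hg]
      exact semi_long g _ hx
  exact ⟨⟨⟨q dualS, hall⟩⟩, by rw [← orderOf_eq_card_of_forall_mem_zpowers hall, hord]⟩

end Cfsg.Lib.Sympl
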