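import Cfsg.Agent.Known.Sympl.Basic
import Cfsg.Agent.Classical.Unitary.Matrix
import Mathlib.Algebra.QuadraticAlgebra.Basic

/-!
The centraliser of a fixed-point-free symplectic element of order three as a unitary group.
-/

set_option autoImplicit false
set_option linter.unusedSectionVars false
set_option linter.style.haveILetI false

namespace Cfsg.Lib.Sympl

open Matrix Cfsg.Lib.Classical

variable {F : Type*} [Field F] [Fintype F] {m : ℕ}

local notation "Vec" => (Fin m ⊕ Fin m → F)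
local notation "Big" => Matrix (Fin m ⊕ Fin m) (Fin m ⊕ Fin m) F
local notation "Spm" => Matrix.symplecticGroup (Fin m) F
local notation "Bf" => sympBilin m F
local notation "K3" => QuadraticAlgebra F (-1 : F) (-1)

theorem no_cube_root {q : ℕ} (hF : Fintype.card F = q) (hq : q % 3 = 2) (r : F) : r ^ 2 ≠ -1 + -1 * r := by
  intro hr
  have h3 : r ^ 3 = 1 := by linear_combination (r - 1) * hr
  by_cases h1 : r = 1
  · have h30 : (3 : F) = 0 := by rw [h1] at hr; linear_combination hr
    obtain ⟨p, hp⟩ := CharP.exists F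
    have hdvd : p ∣ 3 := (CharP.cast_eq_zero_iff F p 3).1 (by exact_mod_cast h30)
    have hp0 : p ≠ 1 := CharP.ringChar_ne_one (R := F) ∘ fun h => (ringChar.eq F p).trans h
    have hp3 : p = 3 := ((Nat.dvd_prime Nat.prime_three).1 hdvd).resolve_left hp0
    subst hp3
    haveI : Fact (Nat.Prime 3) := ⟨Nat.prime_three⟩
    obtain ⟨n, hn⟩ := FiniteField.card F 3
    rw [← hF, hn.2] at hq
    rw [Nat.mod_eq_zero_of_dvd (dvd_pow_self 3 n.ne_zero)] at hq
    omega
  · have hr0 : r ≠ 0 := fun h => by rw [h] at h3; simp at h3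
    have hd : orderOf r ∣ Fintype.card F - 1 := orderOf_dvd_of_pow_eq_one (FiniteField.pow_card_sub_one_eq_one r hr0)
    rw [orderOf_eq_prime h3 h1, hF] at hd
    omega

theorem card_centralizer_three {q : ℕ} (hF : Fintype.card F = q) (hq : q % 3 = 2) (x : Spm) (hx3 : x ^ 3 = 1)
    (hfpf : IsUnit ((x : Big) - 1)) :
    Nat.card ↥(Subgroup.centralizer ({x} : Set Spm)) = cardGUFormula q m := by
  classical
  haveI : Fact (∀ r : F, r ^ 2 ≠ -1 + -1 * r) := ⟨no_cube_root hF hq⟩
  set X : Big := (x : Big) with hXdef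
  have hX3 : X * X * X = 1 := by
    have := congrArg (fun s : Spm => (s : Big)) hx3
    simp only [SubmonoidClass.coe_pow, pow_succ, pow_zero, one_mul] at this
    exact this
  have hX : X * X = (-1 : F) • 1 + (-1 : F) • X := by
    have h0 : (X - 1) * (X * X + X + 1) = 0 := by
      rw [show (X - 1) * (X * X + X + 1) = X * X * X - 1 by noncomm_ring, hX3, sub_self]
    have h1 : X * X + X + 1 = 0 := hfpf.mul_right_eq_zero.1 h0
    rw [neg_smul, neg_smul, one_smul, one_smul, ← sub_eq_zero, ← h1]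
    abel
  have hXe : (Matrix.toLinAlgEquiv' X : Module.End F Vec) * Matrix.toLinAlgEquiv' X =
      (-1 : F) • 1 + (-1 : F) • Matrix.toLinAlgEquiv' X := by
    rw [← map_mul, hX, map_add, map_smul, map_smul, map_one]
  let φ : K3 →ₐ[F] Module.End F Vec := QuadraticAlgebra.lift ⟨_, hXe⟩
  letI : Module K3 Vec := Module.compHom Vec φ.toRingHom
  have hsmul : ∀ (c : K3) (v : Vec), c • v = c.re • v + c.im • (X *ᵥ v) := fun c v => by
    show (φ c) v = _
    rw [show φ c = c.re • 1 + c.im • Matrix.toLinAlgEquiv' X from rfl]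
    simp [Matrix.toLinAlgEquiv'_apply]
  haveI : IsScalarTower F K3 Vec := ⟨fun a c v => by
    show (φ (a • c)) v = a • (φ c) v
    rw [map_smul]; rfl⟩
  haveI : Module.Finite K3 Vec := Module.Finite.of_restrictScalars_finite F K3 Vec
  haveI : Finite K3 := Finite.of_equiv (F × F) (QuadraticAlgebra.equivProd (-1 : F) (-1)).symm
  have hBX : ∀ u v : Vec, Bf (X *ᵥ u) (X *ᵥ v) = Bf u v := sp_form x
  have hsw : ∀ u v : Vec, Bf v u = -Bf u v := fun u v => ((sympBilin_isAlt m F).neg_eq u v).symm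
  have hXX : ∀ v : Vec, X *ᵥ (X *ᵥ v) = -v - X *ᵥ v := fun v => by
    rw [mulVec_mulVec, hX, neg_smul, neg_smul, one_smul, one_smul, add_mulVec, neg_mulVec, neg_mulVec, one_mulVec]
    abel
  have hPR : ∀ u v : Vec, Bf u (X *ᵥ v) = -Bf u v - Bf (X *ᵥ u) v := fun u v => by
    rw [← hBX u (X *ᵥ v), hXX]
    simp only [map_sub, map_neg]
    rw [hBX]
    ring
  let h : Vec → Vec → K3 := fun u v => ⟨Bf (X *ᵥ u) v + Bf u v, Bf u v⟩
  have conj : IsConj (starRingEnd K3) := ⟨fun c => star_star c, ⟨⟨0, 1⟩, fun h => by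
    have h' : (star (⟨0, 1⟩ : K3)).re = 0 := congrArg QuadraticAlgebra.re h
    simp at h'⟩⟩
  let H : HermSpace K3 Vec :=
    { σ := starRingEnd K3
      h := h
      conj := conj
      add_left := fun u v w => by
        refine QuadraticAlgebra.ext ?_ ?_ <;> simp [h, mulVec_add] <;> ring
      smul_left := fun c u v => by
        refine QuadraticAlgebra.ext ?_ ?_ <;> simp [h, hsmul, mulVec_add, mulVec_smul, hXX] <;> ring
      symm := fun u v => by
        refine QuadraticAlgebra.ext ?_ ?_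
        · show Bf (X *ᵥ u) v + Bf u v = Bf (X *ᵥ v) u + Bf v u + -1 * Bf v u
          linear_combination hsw (X *ᵥ u) v + hsw u v - hPR v u
        · show Bf u v = -Bf v u
          exact hsw v u
      nondeg := fun v hv => (sympBilin_nondegenerate m F).2 v fun u => congrArg QuadraticAlgebra.im (hv u) }
  have hqH : H.q = q := by
    have h1 : Nat.card K3 = H.q ^ 2 := H.card_field
    rw [Nat.card_congr (QuadraticAlgebra.equivProd (-1 : F) (-1)), Nat.card_prod, Nat.card_eq_fintype_card, hF,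
      ← pow_two] at h1
    exact (Nat.pow_left_injective two_ne_zero h1).symm
  have hdim : Module.finrank K3 Vec = m := by
    have := Module.finrank_mul_finrank F K3 Vec
    rw [QuadraticAlgebra.finrank_eq_two, finrank_sympSpace] at this
    omega
  refine Eq.trans ?_ ((HermSpace.card_isom H).trans (by rw [hqH, hdim]))
  have hcomm : ∀ g : Spm, g ∈ Subgroup.centralizer ({x} : Set Spm) → ∀ v : Vec, (g : Big) *ᵥ (X *ᵥ v) = X *ᵥ ((g : Big) *ᵥ v) := by
    intro g hg v
    rw [Subgroup.mem_centralizer_singleton_iff] at hg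
    rw [mulVec_mulVec, mulVec_mulVec, hXdef, ← Submonoid.coe_mul, ← Submonoid.coe_mul, hg]
  let toE : ∀ g : Subgroup.centralizer ({x} : Set Spm), Vec ≃ₗ[K3] Vec := fun g =>
    { toFun := fun v => ((g.1 : Spm) : Big) *ᵥ v
      map_add' := mulVec_add _
      map_smul' := fun c v => by
        simp only [RingHom.id_apply, hsmul, mulVec_add, mulVec_smul, hcomm g.1 g.2]
      invFun := fun v => ((g.1⁻¹ : Spm) : Big) *ᵥ v
      left_inv := fun v => sp_inv_mulVec g.1 v
      right_inv := fun v => by simpa using sp_inv_mulVec g.1⁻¹ v }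
  have hmem : ∀ g, toE g ∈ H.Isom := fun g u v => by
    refine QuadraticAlgebra.ext ?_ ?_
    · show Bf (X *ᵥ (((g.1 : Spm) : Big) *ᵥ u)) (((g.1 : Spm) : Big) *ᵥ v) +
        Bf (((g.1 : Spm) : Big) *ᵥ u) (((g.1 : Spm) : Big) *ᵥ v) = Bf (X *ᵥ u) v + Bf u v
      rw [← hcomm g.1 g.2, sp_form, sp_form]
    · exact sp_form g.1 u v
  refine Nat.card_congr (Equiv.ofBijective (fun g => (⟨toE g, hmem g⟩ : H.Isom)) ⟨fun g g' e => ?_, fun e => ?_⟩)
  · refine Subtype.ext (sp_ext fun v => ?_)
    exact congrArg (fun t : H.Isom => t.1 v) e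
  · let l : Vec →ₗ[F] Vec := e.1.toLinearMap.restrictScalars F
    let A : BilinIsom (sympBilin m F) := ⟨e.1.restrictScalars F, fun u v => by
      exact congrArg QuadraticAlgebra.im (e.2 u v)⟩
    let g : Spm := (sympEquiv m F).symm A
    have hg : ∀ v, (g : Big) *ᵥ v = e.1 v := fun v => sympEquiv_symm_mulVec A v
    refine ⟨⟨g, Subgroup.mem_centralizer_singleton_iff.2 (sp_ext fun v => ?_)⟩, Subtype.ext (LinearEquiv.ext hg)⟩
    rw [Submonoid.coe_mul, Submonoid.coe_mul, ← mulVec_mulVec, ← mulVec_mulVec, hg, hg]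
    have := map_smul e.1 (⟨0, 1⟩ : K3) v
    simpa [hsmul] using this

theorem cardGUFormula_int {q : ℕ} (hq : 1 ≤ q) (m : ℕ) :
    (cardGUFormula q m : ℤ) = (q : ℤ) ^ (m * (m - 1) / 2) * ∏ i : Fin m, ((q : ℤ) ^ ((i : ℕ) + 1) - (-1) ^ ((i : ℕ) + 1)) := by
  rw [cardGUFormula, Nat.cast_mul, Nat.cast_pow, Nat.cast_prod,
    Fin.prod_univ_eq_prod_range (fun i => (q : ℤ) ^ (i + 1) - (-1) ^ (i + 1))]
  congr 1
  refine Finset.prod_congr rfl fun i _ => ?_
  rcases Nat.even_or_odd i with hi | hi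
  · rw [if_pos hi, hi.add_one.neg_one_pow]; push_cast; ring
  · rw [if_neg (Nat.not_even_iff_odd.2 hi), hi.add_one.neg_one_pow, Nat.cast_sub (Nat.one_le_pow _ _ hq)]; push_cast; ring

end Cfsg.Lib.Sympl
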